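import Cfsg.Prelude.Def_Classical

/-!
Coded matrices in `SU₆(2)` over a concrete field of order `4`.
-/

set_option autoImplicit false
set_option maxRecDepth 100000

namespace CfsgLib.Spor.U62

open Matrix

/-- The field of order `4`. -/
abbrev K4 : Type := QuadraticAlgebra (ZMod 2) 1 1

instance : Fact (∀ r : ZMod 2, r ^ 2 ≠ (1 : ZMod 2) + 1 * r) := ⟨by decide⟩

/-- the field element with a given code -/
def kOf (x : ℕ) : K4 := ⟨((x % 2 : ℕ) : ZMod 2), ((x / 2 : ℕ) : ZMod 2)⟩

/-- the code of a field element -/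
def kCode (x : K4) : ℕ := x.re.val + 2 * x.im.val

theorem kCode_lt (x : K4) : kCode x < 4 := by
  have h1 := ZMod.val_lt x.re
  have h2 := ZMod.val_lt x.im
  unfold kCode; omega

theorem kOf_kCode : ∀ a b : ZMod 2, kOf (kCode ⟨a, b⟩) = (⟨a, b⟩ : K4) := by decide +kernel

theorem kOf_code (x : K4) : kOf (kCode x) = x := kOf_kCode x.re x.im

theorem card_K4 : Nat.card K4 = 4 := by
  rw [Nat.card_congr (QuadraticAlgebra.equivProd (1 : ZMod 2) 1), Nat.card_prod, Nat.card_zmod]

instance : Finite K4 := Finite.of_equiv _ (QuadraticAlgebra.equivProd (1 : ZMod 2) 1).symm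

/-- product of codes -/
def mulN (x y : ℕ) : ℕ := Nat.land (Nat.shiftRight 0x9c78e400 (2 * (4 * x + y))) 3

theorem kOf_add : ∀ x < 4, ∀ y < 4, kOf (Nat.xor x y) = kOf x + kOf y := by decide +kernel

theorem kOf_mul : ∀ x < 4, ∀ y < 4, kOf (mulN x y) = kOf x * kOf y := by decide +kernel

theorem kOf_inj : ∀ x < 4, ∀ y < 4, kOf x = kOf y → x = y := by decide +kernel

theorem land_three_lt (x : ℕ) : Nat.land x 3 < 4 := Nat.lt_succ_of_le Nat.and_le_right

theorem mulN_lt (x y : ℕ) : mulN x y < 4 := land_three_lt _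

theorem xor_lt {x y : ℕ} (hx : x < 4) (hy : y < 4) : Nat.xor x y < 4 :=
  Nat.xor_lt_two_pow (n := 2) hx hy

/-- an entry of a coded matrix -/
def ent (c i j : ℕ) : ℕ := Nat.land (Nat.shiftRight c (2 * (6 * i + j))) 3

theorem ent_lt (c i j : ℕ) : ent c i j < 4 := land_three_lt _

/-- The matrix with a given code. -/
def ofCode (c : ℕ) : Matrix (Fin 6) (Fin 6) K4 := fun i j => kOf (ent c i j)

/-- all pairs of indices below `6` -/
def allB (f : ℕ → ℕ → Bool) : Bool :=
  (List.range 6).all fun i => (List.range 6).all fun j => f i j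

theorem allB_spec {f : ℕ → ℕ → Bool} (h : allB f = true) (i j : Fin 6) : f i j = true :=
  List.all_eq_true.1 (List.all_eq_true.1 h i (List.mem_range.2 i.2)) j (List.mem_range.2 j.2)

/-- sum of six products -/
def dot6 (a b : ℕ → ℕ) : ℕ :=
  Nat.xor (Nat.xor (Nat.xor (Nat.xor (Nat.xor (mulN (a 0) (b 0)) (mulN (a 1) (b 1)))
    (mulN (a 2) (b 2))) (mulN (a 3) (b 3))) (mulN (a 4) (b 4))) (mulN (a 5) (b 5))

theorem kOf_dot6 {a b : ℕ → ℕ} (ha : ∀ k, a k < 4) (hb : ∀ k, b k < 4) :
    kOf (dot6 a b) = ∑ k : Fin 6, kOf (a k) * kOf (b k) := by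
  have m := fun k => mulN_lt (a k) (b k)
  rw [dot6, kOf_add _ (xor_lt (xor_lt (xor_lt (xor_lt (m 0) (m 1)) (m 2)) (m 3)) (m 4)) _ (m 5),
    kOf_add _ (xor_lt (xor_lt (xor_lt (m 0) (m 1)) (m 2)) (m 3)) _ (m 4),
    kOf_add _ (xor_lt (xor_lt (m 0) (m 1)) (m 2)) _ (m 3),
    kOf_add _ (xor_lt (m 0) (m 1)) _ (m 2), kOf_add _ (m 0) _ (m 1)]
  simp only [kOf_mul _ (ha _) _ (hb _), Fin.sum_univ_six]
  rfl

/-- pack a list of entries -/
def pack : List ℕ → ℕ
  | [] => 0
  | x :: r => x + 4 * pack r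

theorem ent_pack : ∀ (l : List ℕ), (∀ x ∈ l, x < 4) → ∀ n : ℕ,
    Nat.land (Nat.shiftRight (pack l) (2 * n)) 3 = l.getD n 0 := by
  intro l
  induction l with
  | nil => intro _ n; show (0 >>> (2 * n)) &&& 3 = _; simp
  | cons x r ih =>
    intro h n
    have hx := h x List.mem_cons_self
    cases n with
    | zero =>
      show (x + 4 * pack r) >>> 0 &&& 3 = x
      rw [Nat.shiftRight_zero, Nat.and_two_pow_sub_one_eq_mod _ 2]
      omega
    | succ m =>
      rw [List.getD_cons_succ, ← ih (fun y hy => h y (List.mem_cons_of_mem _ hy)) m]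
      show (x + 4 * pack r) >>> (2 * (m + 1)) &&& 3 = (pack r) >>> (2 * m) &&& 3
      congr 1
      rw [show 2 * (m + 1) = 2 + 2 * m by ring, Nat.shiftRight_add, Nat.shiftRight_eq_div_pow _ 2]
      congr 1
      omega

/-- a code built from its entries -/
def build (f : ℕ → ℕ → ℕ) : ℕ := pack ((List.range 36).map fun n => f (n / 6) (n % 6))

theorem ent_build {f : ℕ → ℕ → ℕ} (hf : ∀ i j, f i j < 4) {i j : ℕ} (hi : i < 6) (hj : j < 6) :
    ent (build f) i j = f i j := by
  rw [ent, build, ent_pack _ (by simp [hf])]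
  have hn : 6 * i + j < 36 := by omega
  rw [List.getD_eq_getElem _ _ (by simpa using hn), List.getElem_map, List.getElem_range]
  congr 1 <;> omega

/-- product of codes -/
def mulC (a b : ℕ) : ℕ := build fun i j => dot6 (fun k => ent a i k) fun k => ent b k j

theorem dot6_lt (a b : ℕ → ℕ) : dot6 a b < 4 :=
  xor_lt (xor_lt (xor_lt (xor_lt (xor_lt (mulN_lt _ _) (mulN_lt _ _)) (mulN_lt _ _))
    (mulN_lt _ _)) (mulN_lt _ _)) (mulN_lt _ _)

theorem ofCode_mulC (a b : ℕ) : ofCode (mulC a b) = ofCode a * ofCode b := by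
  refine Matrix.ext fun i j => ?_
  show kOf (ent (mulC a b) i j) = _
  rw [mulC, ent_build (fun _ _ => dot6_lt _ _) i.2 j.2,
    kOf_dot6 (fun k => ent_lt _ _ _) fun k => ent_lt _ _ _, Matrix.mul_apply]
  rfl

/-- the square of a code -/
def sqN (x : ℕ) : ℕ := mulN x x

/-- the unitarity condition on a code -/
def unitB (c : ℕ) : Bool := allB fun i j =>
  Nat.beq (dot6 (fun k => ent c k i) fun k => sqN (ent c k j)) (if Nat.beq i j then 1 else 0)

theorem unitB_spec {c : ℕ} (h : unitB c = true) :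
    (ofCode c).transpose * (ofCode c).map (fun x => x * x) = 1 := by
  refine Matrix.ext fun i j => ?_
  have e := congrArg kOf (Nat.eq_of_beq_eq_true (allB_spec h i j))
  rw [kOf_dot6 (a := fun k => ent c k i) (b := fun k => sqN (ent c k j)) (fun k => ent_lt _ _ _)
    fun k => mulN_lt _ _] at e
  rw [Matrix.mul_apply, Matrix.one_apply]
  have hs : ∀ x < 4, kOf (sqN x) = kOf x * kOf x := by decide +kernel
  simp only [hs _ (ent_lt _ _ _)] at e
  refine e.trans ?_
  rcases eq_or_ne i j with rfl | hij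
  · simp only [Nat.beq_refl, if_true, cond_true]; decide +kernel
  · rw [if_neg hij, if_neg (by simpa [Nat.beq_eq] using Fin.val_injective.ne hij)]
    decide +kernel

/-- The group `SU₆(2)` over the concrete field. -/
abbrev U6 : Type := ↥(Cfsg.SU 6 K4 2)

/-- the matrix of an element -/
def mat : U6 →* Matrix (Fin 6) (Fin 6) K4 where
  toFun g := g.1.1
  map_one' := rfl
  map_mul' _ _ := rfl

theorem mat_injective : Function.Injective mat := fun _ _ h => Subtype.ext (Subtype.ext h)

/-- the code of a matrix -/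
def codeM (M : Matrix (Fin 6) (Fin 6) K4) : ℕ :=
  build fun i j => kCode (M (Fin.ofNat 6 i) (Fin.ofNat 6 j))

theorem ofCode_codeM (M : Matrix (Fin 6) (Fin 6) K4) : ofCode (codeM M) = M := by
  refine Matrix.ext fun i j => ?_
  show kOf (ent (codeM M) i j) = _
  rw [codeM, ent_build (fun _ _ => kCode_lt _) i.2 j.2, kOf_code, Fin.ofNat_val_eq_self, Fin.ofNat_val_eq_self]

theorem codeM_ofCode (c : ℕ) : codeM (ofCode c) = build fun i j => ent c i j := by
  unfold codeM build
  congr 1
  refine List.map_congr_left fun n hn => ?_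
  have hn' := List.mem_range.1 hn
  have hk : ∀ x < 4, kCode (kOf x) = x := by decide +kernel
  show kCode (kOf (ent c _ _)) = _
  rw [hk _ (ent_lt _ _ _)]
  congr 1 <;> simp only [Fin.val_ofNat] <;> omega

/-- the code of an element -/
def cd (g : U6) : ℕ := codeM (mat g)

theorem mat_eq (g : U6) : mat g = ofCode (cd g) := (ofCode_codeM _).symm

theorem cd_injective : Function.Injective cd := fun g h e =>
  mat_injective (by rw [mat_eq g, mat_eq h, e])

theorem codeM_ofCode_mulC (a b : ℕ) : codeM (ofCode (mulC a b)) = mulC a b := by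
  rw [codeM_ofCode, build, mulC]
  congr 1
  refine List.map_congr_left fun n hn => ?_
  have hn' := List.mem_range.1 hn
  exact ent_build (fun _ _ => dot6_lt _ _) (by omega) (Nat.mod_lt _ (by norm_num))

theorem cd_mul (g h : U6) : cd (g * h) = mulC (cd g) (cd h) := by
  rw [cd, map_mul, mat_eq g, mat_eq h, ← ofCode_mulC, codeM_ofCode_mulC]

/-- the code of the identity -/
def oneC : ℕ := build fun i j => if Nat.beq i j then 1 else 0

theorem cd_one : cd 1 = oneC := by
  rw [cd, map_one]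
  decide +kernel

theorem hermForm_mulVec (A : Matrix (Fin 6) (Fin 6) K4) (u v : Fin 6 → K4) :
    Cfsg.hermForm 6 K4 2 (A *ᵥ u) (A *ᵥ v) =
      u ⬝ᵥ ((A.transpose * A.map (fun x => x * x)) *ᵥ fun i => v i * v i) := by
  rw [← Matrix.mulVec_mulVec, Matrix.dotProduct_mulVec, Matrix.vecMul_transpose]
  show ∑ i, (A *ᵥ u) i * (A *ᵥ v) i ^ 2 = ∑ i, _
  have h2 : ∀ x y : K4, (x + y) * (x + y) = x * x + y * y := by
    intro x y
    have e : x * y + y * x = 0 := by
      rw [mul_comm y x, ← two_mul, show (2 : K4) = 0 by decide +kernel, zero_mul]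
    linear_combination e
  let φ : K4 →+ K4 := AddMonoidHom.mk' (fun x => x * x) h2
  refine Finset.sum_congr rfl fun i _ => ?_
  congr 1
  rw [pow_two]
  show φ (∑ j, A i j * v j) = ∑ j, (A i j * A i j) * (v j * v j)
  rw [map_sum]
  exact Finset.sum_congr rfl fun j _ => show A i j * v j * (A i j * v j) = _ by ring

theorem exists_cd {c : ℕ}
    (hc : (Nat.beq (build fun i j => ent c i j) c && unitB c) = true) (hd : (ofCode c).det = 1) :
    ∃ g : U6, cd g = c := by
  simp only [Bool.and_eq_true, Nat.beq_eq] at hc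
  refine ⟨⟨⟨ofCode c, hd⟩, fun u v => ?_⟩, (codeM_ofCode c).trans hc.1⟩
  show Cfsg.hermForm 6 K4 2 (ofCode c *ᵥ u) (ofCode c *ᵥ v) = _
  rw [hermForm_mulVec, unitB_spec hc.2, Matrix.one_mulVec]
  exact Finset.sum_congr rfl fun i _ => by rw [pow_two]

/-- straight-line program on codes: each row is the product of two earlier ones -/
def slpB : List (ℕ × ℕ × ℕ) → List ℕ → Bool
  | [], _ => true
  | (c, i, j) :: r, acc =>
    Nat.beq c (mulC (acc.getD i oneC) (acc.getD j oneC)) && slpB r (c :: acc)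

/-- `c` is the code of an element of `H` -/
def In (H : Subgroup U6) (c : ℕ) : Prop := ∃ g ∈ H, cd g = c

theorem In.mul {H : Subgroup U6} {a b : ℕ} (ha : In H a) (hb : In H b) : In H (mulC a b) := by
  obtain ⟨g, hg, rfl⟩ := ha
  obtain ⟨k, hk, rfl⟩ := hb
  exact ⟨g * k, H.mul_mem hg hk, cd_mul g k⟩

theorem In.mem {H : Subgroup U6} {g : U6} {c : ℕ} (h : In H c) (hg : cd g = c) : g ∈ H := by
  obtain ⟨k, hk, e⟩ := h
  rwa [cd_injective (hg.trans e.symm)]

theorem mem_of_slpB {H : Subgroup U6} :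
    ∀ (r : List (ℕ × ℕ × ℕ)) (acc : List ℕ), slpB r acc = true →
      (∀ c ∈ acc, In H c) → ∀ c, (c ∈ r.map Prod.fst ∨ c ∈ acc) → In H c := by
  intro r
  induction r with
  | nil => intro acc _ h c hc; exact h c (by simpa using hc)
  | cons x r ih =>
    obtain ⟨d, i, j⟩ := x
    intro acc h hacc c hc
    simp only [slpB, Bool.and_eq_true, Nat.beq_eq] at h
    have hget : ∀ k, In H (acc.getD k oneC) := by
      intro k
      by_cases hk : k < acc.length
      · rw [List.getD_eq_getElem _ _ hk]; exact hacc _ (List.getElem_mem hk)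
      · rw [List.getD_eq_default _ _ (not_lt.1 hk)]; exact ⟨1, H.one_mem, cd_one⟩
    have hd : In H d := h.1 ▸ (hget i).mul (hget j)
    refine ih (d :: acc) h.2 (List.forall_mem_cons.2 ⟨hd, hacc⟩) c ?_
    rcases hc with hc | hc
    · rcases List.mem_cons.1 hc with rfl | hc
      · exact Or.inr List.mem_cons_self
      · exact Or.inl hc
    · exact Or.inr (List.mem_cons_of_mem _ hc)

/-- all targets occur in a correct program -/
def progB (r : List (ℕ × ℕ × ℕ)) (base tg : List ℕ) : Bool :=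
  slpB r base && tg.all fun c => (r.map Prod.fst ++ base).any (Nat.beq c)

theorem In.prog {H : Subgroup U6} {r : List (ℕ × ℕ × ℕ)} {base tg : List ℕ}
    (h : progB r base tg = true) (hb : ∀ c ∈ base, In H c) : ∀ c ∈ tg, In H c := by
  intro c hc
  simp only [progB, Bool.and_eq_true, List.all_eq_true, List.any_eq_true, Nat.beq_eq] at h
  obtain ⟨d, hd, e⟩ := h.2 c hc
  exact e ▸ mem_of_slpB r base h.1 hb d (List.mem_append.1 hd)

end CfsgLib.Spor.U62
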