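import Cfsg.Agent.Lib.Spor.U62.Classify

/-!
The three classes, over an arbitrary field of order four.
-/

set_option autoImplicit false
set_option maxRecDepth 100000

namespace CfsgLib.Spor.U62

open scoped Pointwise Matrix

variable {F9 : Type} [Field F9] [Fintype F9]

theorem eleven_not_dvd (hF9 : Fintype.card F9 = 9) (i : Fin 3) : ¬ 11 ∣ Nat.card (KS i) := by
  rw [(KS_spec hF9 i).2]; norm_num

theorem exists_conj_eq_P0 {S : Subgroup U6} (hS : Nat.card S = 3 ^ 7) :
    ∃ g : U6, S.map (MulAut.conj g).toMonoidHom = P0 := by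
  haveI : Fact (Nat.Prime 3) := ⟨by norm_num⟩
  have hf : (Nat.card U6).factorization 3 = 7 := by
    rw [card_U6_val, Nat.factorization_mul (by norm_num) (by norm_num), Finsupp.add_apply,
      Nat.Prime.factorization_pow (by norm_num), Finsupp.single_eq_same,
      Nat.factorization_eq_zero_of_not_dvd (by norm_num), add_zero]
  obtain ⟨g, hg⟩ := MulAction.exists_smul_eq U6 (Sylow.ofCard S (by rw [hS, hf]))
    (Sylow.ofCard P0 (by rw [card_P0, hf]))
  exact ⟨g, congrArg Sylow.toSubgroup hg⟩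

theorem classify (hF9 : Fintype.card F9 = 9) {K : Subgroup U6} (hK : Cover F9 K) :
    ∃ g : U6, ∃ i : Fin 3, K.map (MulAut.conj g).toMonoidHom = KS i := by
  haveI : Fact (Nat.Prime 3) := ⟨by norm_num⟩
  obtain ⟨S, hS⟩ := Sylow.exists_subgroup_card_pow_prime 3 (G := K) (n := 7)
    (by rw [card_cover hF9 hK]; norm_num)
  have hc : Nat.card (S.map K.subtype) = 3 ^ 7 := by
    rw [← Nat.card_congr (Subgroup.equivMapOfInjective S _ K.subtype_injective).toEquiv, hS]
  obtain ⟨g, hg⟩ := exists_conj_eq_P0 hc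
  have hle : P0 ≤ K.map (MulAut.conj g).toMonoidHom := by
    rw [← hg]; exact Subgroup.map_mono (Subgroup.map_subtype_le S)
  obtain ⟨i, hi⟩ := classify_sylow hF9 (hK.map g) hle
  exact ⟨g, i, hi.symm⟩

theorem map_conj_mul (H : Subgroup U6) (a b : U6) :
    H.map (MulAut.conj (a * b)).toMonoidHom =
      (H.map (MulAut.conj b).toMonoidHom).map (MulAut.conj a).toMonoidHom := by
  rw [Subgroup.map_map]
  refine congrArg (fun f => Subgroup.map f H) (MonoidHom.ext fun x => ?_)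
  show a * b * x * (a * b)⁻¹ = a * (b * x * b⁻¹) * a⁻¹
  group

theorem map_conj_of_mem {H : Subgroup U6} {a : U6} (ha : a ∈ H) :
    H.map (MulAut.conj a).toMonoidHom = H := by
  refine Subgroup.eq_of_le_of_card_ge ?_ ?_
  · rintro _ ⟨x, hx, rfl⟩
    show a * x * a⁻¹ ∈ H
    exact H.mul_mem (H.mul_mem ha hx) (H.inv_mem ha)
  · exact (Nat.card_congr (Subgroup.equivMapOfInjective H _ (MulEquiv.injective _)).toEquiv).le

theorem not_conj (hF9 : Fintype.card F9 = 9) {i j : Fin 3} (hij : i ≠ j) (g : U6)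
    (hg : (KS i).map (MulAut.conj g).toMonoidHom = KS j) : False := by
  haveI : Fact (Nat.Prime 3) := ⟨by norm_num⟩
  have hf : (Nat.card (KS j)).factorization 3 = 7 := by
    rw [(KS_spec hF9 j).2, show 3 * 3265920 = 3 ^ 7 * 4480 by norm_num,
      Nat.factorization_mul (by norm_num) (by norm_num), Finsupp.add_apply,
      Nat.Prime.factorization_pow (by norm_num), Finsupp.single_eq_same,
      Nat.factorization_eq_zero_of_not_dvd (by norm_num), add_zero]
  let Q : Subgroup U6 := P0.map (MulAut.conj g).toMonoidHom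
  have hQle : Q ≤ KS j := hg ▸ Subgroup.map_mono (P0_le i)
  have hQc : Nat.card Q = 3 ^ 7 := by
    rw [← Nat.card_congr (Subgroup.equivMapOfInjective P0 _ (MulEquiv.injective _)).toEquiv, card_P0]
  obtain ⟨h, hh⟩ := MulAction.exists_smul_eq (KS j)
    (Sylow.ofCard (Q.subgroupOf (KS j))
      (by rw [Nat.card_congr (Subgroup.subgroupOfEquivOfLe hQle).toEquiv, hQc, hf]))
    (Sylow.ofCard (P0.subgroupOf (KS j))
      (by rw [Nat.card_congr (Subgroup.subgroupOfEquivOfLe (P0_le j)).toEquiv, card_P0, hf]))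
  have hh' := congrArg Sylow.toSubgroup hh
  set u : U6 := (h : U6) * g with hu
  have hnorm : ∀ x ∈ P0, u * x * u⁻¹ ∈ P0 := by
    intro x hx
    have h1 : (⟨g * x * g⁻¹, hQle ⟨x, hx, rfl⟩⟩ : KS j) ∈ Q.subgroupOf (KS j) := ⟨x, hx, rfl⟩
    have h2 := Subgroup.smul_mem_pointwise_smul _ (MulAut.conj h) _ h1
    have e : MulAut.conj h • Q.subgroupOf (KS j) = P0.subgroupOf (KS j) := hh'
    rw [e, Subgroup.mem_subgroupOf] at h2
    have e2 : u * x * u⁻¹ = (h : U6) * (g * x * g⁻¹) * (h : U6)⁻¹ := by rw [hu]; group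
    rw [e2]
    exact h2
  have hA : ∀ x ∈ A, u * x * u⁻¹ ∈ A := by
    intro x hx
    have hB : A.map (MulAut.conj u).toMonoidHom = A := by
      refine A_unique ?_ ?_ ?_
      · rintro _ ⟨y, hy, rfl⟩
        exact hnorm y (Subgroup.mem_sup_left hy)
      · rintro _ ⟨y, hy, rfl⟩ _ ⟨z, hz, rfl⟩
        rw [← map_mul, ← map_mul, A_comm y hy z hz]
      · exact (Nat.card_congr (Subgroup.equivMapOfInjective A _ (MulEquiv.injective _)).toEquiv).symm
    exact hB.le ⟨x, hx, rfl⟩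
  obtain ⟨a, ha, π, hπ⟩ := monomial_of_normalizes hA
  have h1 : (KS i).map (MulAut.conj u).toMonoidHom = KS j := by
    rw [hu, map_conj_mul, hg, map_conj_of_mem h.2]
  rw [hπ, map_conj_mul, perm_normalizes, map_conj_of_mem (M0_le i (A_le_M0 ha))] at h1
  exact KS_ne hij (eleven_not_dvd hF9 i) h1

theorem hermForm_map {F E : Type*} [Field F] [Field E] (φ : F ≃+* E) {n q : ℕ} (u v : Fin n → F) :
    Cfsg.hermForm n E q (φ ∘ u) (φ ∘ v) = φ (Cfsg.hermForm n F q u v) := by
  simp [Cfsg.hermForm, map_sum, map_mul, map_pow]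

theorem map_mem_SU {F E : Type*} [Field F] [Field E] (φ : F ≃+* E) {n q : ℕ}
    (g : Cfsg.SU n F q) : Matrix.SpecialLinearGroup.map (φ : F →+* E) g.1 ∈ Cfsg.SU n E q := by
  intro u v
  obtain ⟨u, rfl⟩ : ∃ w : Fin n → F, φ ∘ w = u := ⟨φ.symm ∘ u, funext fun i => by simp⟩
  obtain ⟨v, rfl⟩ : ∃ w : Fin n → F, φ ∘ w = v := ⟨φ.symm ∘ v, funext fun i => by simp⟩
  have hm : ∀ w : Fin n → F, (g.1.1.map φ) *ᵥ (φ ∘ w) = φ ∘ (g.1.1 *ᵥ w) := fun w =>
    funext fun i => (RingHom.map_mulVec (φ : F →+* E) g.1.1 w i).symm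
  show Cfsg.hermForm n E q ((g.1.1.map φ) *ᵥ (φ ∘ u)) ((g.1.1.map φ) *ᵥ (φ ∘ v)) = _
  rw [hm, hm, hermForm_map, hermForm_map]
  exact congrArg φ (g.2 u v)

/-- change of field -/
def suIso {F E : Type*} [Field F] [Field E] (φ : F ≃+* E) (n q : ℕ) :
    Cfsg.SU n F q ≃* Cfsg.SU n E q where
  toFun g := ⟨_, map_mem_SU φ g⟩
  invFun g := ⟨_, map_mem_SU φ.symm g⟩
  left_inv g := Subtype.ext (Subtype.ext (Matrix.ext fun i j => φ.symm_apply_apply _))
  right_inv g := Subtype.ext (Subtype.ext (Matrix.ext fun i j => φ.apply_symm_apply _))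
  map_mul' g h := Subtype.ext (map_mul (Matrix.SpecialLinearGroup.map (φ : F →+* E)) g.1 h.1)

theorem exists_fieldIso {F : Type} [Field F] [Fintype F] (hF : Fintype.card F = 4) :
    Nonempty (K4 ≃+* F) := by
  letI := Fintype.ofFinite K4
  refine ⟨FiniteField.ringEquivOfCardEq ?_⟩
  rw [hF, ← Nat.card_eq_fintype_card, card_K4]

theorem map_conj_transport {G H : Type*} [Group G] [Group H] (e : G ≃* H) (S : Subgroup G) (g : G) :
    (S.map (MulAut.conj g).toMonoidHom).map e.toMonoidHom =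
      (S.map e.toMonoidHom).map (MulAut.conj (e g)).toMonoidHom := by
  rw [Subgroup.map_map, Subgroup.map_map]
  congr 1
  ext x
  simp

end CfsgLib.Spor.U62
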