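import Mathlib

/-!
Finite groups given by lists of codes, and abelian subgroups of index 9.
-/

set_option autoImplicit false

namespace CfsgLib.Spor.U62

variable {G β : Type*} [Group G] [Finite G]

theorem closure_mem_list {c : G → β} {m : β → β → β} (hm : ∀ g h, c (g * h) = m (c g) (c h))
    {L S : List β} (h1 : c 1 ∈ L) (hcl : ∀ x ∈ L, ∀ y ∈ S, m x y ∈ L) {T : Set G}
    (hT : ∀ g ∈ T, c g ∈ S) : ∀ g ∈ Subgroup.closure T, c g ∈ L := by
  intro g hg
  rw [← Subgroup.mem_toSubmonoid, Subgroup.closure_toSubmonoid_of_finite] at hg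
  induction hg using Submonoid.closure_induction_right with
  | one => exact h1
  | mul_right x hx y hy ih => rw [hm]; exact hcl _ ih _ (hT _ hy)

theorem card_eq_length {c : G → β} (hc : Function.Injective c) {H : Subgroup G} {L : List β}
    (hnd : L.Nodup) (hin : ∀ g ∈ H, c g ∈ L) (hsur : ∀ x ∈ L, ∃ g ∈ H, c g = x) :
    Nat.card H = L.length := by
  classical
  rw [← List.toFinset_card_of_nodup hnd, ← Nat.card_eq_finsetCard]
  refine Nat.card_eq_of_bijective
    (fun g : H => (⟨c g, List.mem_toFinset.2 (hin _ g.2)⟩ : L.toFinset)) ⟨fun a b e => ?_, fun x => ?_⟩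
  · exact Subtype.ext (hc (congrArg Subtype.val e))
  · obtain ⟨g, hg, e⟩ := hsur x (List.mem_toFinset.1 x.2)
    exact ⟨⟨g, hg⟩, Subtype.ext e⟩

theorem ncard_le_filter {c : G → β} (hc : Function.Injective c) {S : Set G} {L : List β}
    {p : β → Bool} (h : ∀ g ∈ S, c g ∈ L ∧ p (c g) = true) : S.ncard ≤ (L.filter p).length := by
  classical
  refine le_trans ?_ (L.filter p).toFinset_card_le
  rw [← Set.ncard_coe_finset]
  exact Set.ncard_le_ncard_of_injOn c
    (fun g hg => Finset.mem_coe.2 (List.mem_toFinset.2 (List.mem_filter.2 (h g hg))))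
    hc.injOn (Finset.finite_toSet _)

theorem eq_of_abelian_index_nine {A C B : Subgroup G} (hC : Nat.card C = 9)
    (hA : ∀ x ∈ A, ∀ y ∈ A, x * y = y * x)
    (h1 : ∀ c ∈ C, c ≠ 1 → {x : G | x ∈ A ∧ x * c = c * x}.ncard * 3 < Nat.card A)
    (h2 : {x : G | x ∈ A ∧ ∀ c ∈ C, x * c = c * x}.ncard * 9 < Nat.card A)
    (hBP : ∀ b ∈ B, ∃ a ∈ A, ∃ c ∈ C, a * c = b) (hB : ∀ x ∈ B, ∀ y ∈ B, x * y = y * x)
    (hcard : Nat.card B = Nat.card A) : B = A := by
  classical
  haveI := Fintype.ofFinite G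
  choose fa hfa fc hfc heq using hBP
  by_cases hall : ∀ b (hb : b ∈ B), fc b hb = 1
  · refine Subgroup.eq_of_le_of_card_ge (fun b hb => ?_) hcard.ge
    have := heq b hb
    rw [hall b hb, mul_one] at this
    exact this ▸ hfa b hb
  exfalso
  let BA : Set G := {x | x ∈ B ∧ x ∈ A}
  let f : B → C := fun b => ⟨fc b.1 b.2, hfc b.1 b.2⟩
  let I : Finset C := Finset.univ.image f
  have hcomm : ∀ b : B, ∀ x ∈ BA, x * (f b : G) = f b * x := by
    rintro ⟨b, hb⟩ x ⟨hxB, hxA⟩
    have e := hB x hxB b hb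
    rw [← heq b hb, ← mul_assoc, hA x hxA _ (hfa b hb), mul_assoc, mul_assoc] at e
    exact mul_left_cancel e
  have hle : Nat.card B ≤ BA.ncard * I.card := by
    rw [Nat.card_eq_fintype_card, ← Finset.card_univ]
    refine Finset.card_le_mul_card_image _ _ fun y hy => ?_
    obtain ⟨b₀, -, rfl⟩ := Finset.mem_image.1 hy
    rw [← Set.ncard_coe_finset]
    refine Set.ncard_le_ncard_of_injOn (fun b : B => (b : G) * (b₀ : G)⁻¹) (fun b hb => ?_)
      (fun b _ b' _ e => Subtype.ext (mul_right_cancel e)) (Set.toFinite _)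
    have e : fc b.1 b.2 = fc b₀.1 b₀.2 :=
      congrArg Subtype.val (Finset.mem_filter.1 (Finset.mem_coe.1 hb)).2
    refine ⟨B.mul_mem b.2 (B.inv_mem b₀.2), ?_⟩
    show (b : G) * (b₀ : G)⁻¹ ∈ A
    rw [← heq b.1 b.2, ← heq b₀.1 b₀.2, e, mul_inv_rev, mul_assoc, mul_inv_cancel_left]
    exact A.mul_mem (hfa _ _) (A.inv_mem (hfa _ _))
  push Not at hall
  obtain ⟨b, hb, hne⟩ := hall
  by_cases hI : I.card ≤ 3
  · have := h1 _ (hfc b hb) hne
    have hs : BA.ncard ≤ {x : G | x ∈ A ∧ x * fc b hb = fc b hb * x}.ncard :=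
      Set.ncard_le_ncard (fun x hx => ⟨hx.2, hcomm ⟨b, hb⟩ x hx⟩) (Set.toFinite _)
    nlinarith
  · have hgen : Subgroup.closure (I : Set C) = ⊤ := by
      apply Subgroup.eq_top_of_card_eq
      have hd := Subgroup.card_subgroup_dvd_card (Subgroup.closure (I : Set C))
      have hg : I.card ≤ Nat.card (Subgroup.closure (I : Set C)) := by
        rw [← Set.ncard_coe_finset, ← Nat.card_coe_set_eq]
        exact Nat.card_mono (Set.toFinite _) Subgroup.subset_closure
      rw [hC] at hd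
      have hle9 := Nat.le_of_dvd (by norm_num) hd
      rw [hC]
      interval_cases h : Nat.card (Subgroup.closure (I : Set C)) <;> omega
    have hs : BA.ncard ≤ {x : G | x ∈ A ∧ ∀ c ∈ C, x * c = c * x}.ncard := by
      refine Set.ncard_le_ncard (fun x hx => ⟨hx.2, fun c hc => ?_⟩) (Set.toFinite _)
      have hmem : (⟨c, hc⟩ : C) ∈ Subgroup.closure (I : Set C) := hgen ▸ Subgroup.mem_top _
      have : Subgroup.closure (I : Set C) ≤ (Subgroup.centralizer {x}).comap C.subtype := by
        rw [Subgroup.closure_le]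
        intro y hy
        obtain ⟨b, -, rfl⟩ := Finset.mem_image.1 (Finset.mem_coe.1 hy)
        exact Subgroup.mem_centralizer_singleton_iff.2 (hcomm b x hx).symm
      exact (Subgroup.mem_centralizer_singleton_iff.1 (this hmem)).symm
    have hI9 : I.card ≤ 9 := by
      refine le_trans (Finset.card_le_univ _) ?_
      rw [← Nat.card_eq_fintype_card, hC]
    nlinarith

end CfsgLib.Spor.U62
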