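import Cfsg.Agent.Lib.Spor.U62.ModelData
import Cfsg.Agent.Lib.Spor.U62.Count
import Cfsg.Agent.Lib.Coprime.Basic

/-!
Local structure of the degree 112 model of `PSU₄(3)` at the prime 3.
-/

set_option autoImplicit false
set_option maxRecDepth 100000

namespace CfsgLib.Spor.U62

open CfsgLib.Spor.HSUnitary (RepL)
open CfsgLib.Spor.McLUnitary (pA pB pA_val pB_val permA permB model)
open scoped Pointwise

/-- permutations of the 112 points -/
abbrev P112 : Type := Equiv.Perm (Fin 112)

/-- pack small numbers -/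
def packB : List ℕ → ℕ
  | [] => 0
  | x :: r => x + 128 * packB r

/-- read a packed number -/
def getB (c n : ℕ) : ℕ := Nat.land (Nat.shiftRight c (7 * n)) 127

theorem getB_packB : ∀ (l : List ℕ), (∀ x ∈ l, x < 128) → ∀ n : ℕ, getB (packB l) n = l.getD n 0 := by
  intro l
  induction l with
  | nil => intro _ n; show (0 >>> (7 * n)) &&& 127 = _; simp
  | cons x r ih =>
    intro h n
    have hx := h x List.mem_cons_self
    cases n with
    | zero =>
      show (x + 128 * packB r) >>> 0 &&& 127 = x
      rw [Nat.shiftRight_zero, Nat.and_two_pow_sub_one_eq_mod _ 7]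
      omega
    | succ m =>
      rw [List.getD_cons_succ, ← ih (fun y hy => h y (List.mem_cons_of_mem _ hy)) m]
      show (x + 128 * packB r) >>> (7 * (m + 1)) &&& 127 = (packB r) >>> (7 * m) &&& 127
      congr 1
      rw [show 7 * (m + 1) = 7 + 7 * m by ring, Nat.shiftRight_add, Nat.shiftRight_eq_div_pow _ 7]
      congr 1
      omega

/-- the identity -/
def oneP : ℕ := packB (List.range 112)

/-- composition of packed permutations -/
def compN (a b : ℕ) : ℕ := packB ((List.range 112).map fun i => getB a (getB b i))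

/-- the packed images -/
def pc (σ : P112) : ℕ :=
  packB ((List.range 112).map fun i => ((σ (Fin.ofNat 112 i) : Fin 112) : ℕ))

theorem getB_pc (σ : P112) (i : Fin 112) : getB (pc σ) i = (σ i : ℕ) := by
  rw [pc, getB_packB _ (by
    intro x hx
    obtain ⟨k, -, rfl⟩ := List.mem_map.1 hx
    exact lt_trans (Fin.is_lt _) (by norm_num)),
    List.getD_eq_getElem _ _ (by simp), List.getElem_map, List.getElem_range, Fin.ofNat_val_eq_self]

theorem pc_injective : Function.Injective pc := fun σ τ h =>
  Equiv.ext fun i => Fin.ext ((getB_pc σ i).symm.trans ((congrArg (fun c => getB c i) h).trans (getB_pc τ i)))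

theorem pc_mul (σ τ : P112) : pc (σ * τ) = compN (pc σ) (pc τ) := by
  refine congrArg packB (List.map_congr_left fun i hi => ?_)
  have h := List.mem_range.1 hi
  rw [show getB (pc τ) i = ((τ ⟨i, h⟩ : Fin 112) : ℕ) from getB_pc τ ⟨i, h⟩, getB_pc σ (τ ⟨i, h⟩),
    show Fin.ofNat 112 i = (⟨i, h⟩ : Fin 112) from Fin.ext (Nat.mod_eq_of_lt h)]
  rfl

theorem pc_one : pc 1 = oneP := by
  refine congrArg packB ((List.map_congr_left fun i hi => ?_).trans (List.map_id _))
  exact Nat.mod_eq_of_lt (List.mem_range.1 hi)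

theorem pc_eq {σ : P112} {l : List ℕ} (h : RepL σ l) (hl : l.length = 112) : pc σ = packB l := by
  refine congrArg packB (List.ext_getElem (by simp [hl]) fun i h1 h2 => ?_)
  have := h ⟨i, by omega⟩
  rw [List.getD_eq_getElem _ _ h2] at this
  rw [this, List.getElem_map, List.getElem_range]
  exact congrArg (fun j => ((σ j : Fin 112) : ℕ)) (Fin.ext (Nat.mod_eq_of_lt (by omega)))

/-- membership in a list of codes -/
def memLL (L : List ℕ) (a : ℕ) : Bool := L.any (Nat.beq a)

theorem memLL_iff {L : List ℕ} {a : ℕ} : memLL L a = true ↔ a ∈ L := by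
  simp [memLL, List.any_eq_true, Nat.beq_eq]

/-- `l` is the code of an element of `H` -/
def PIn (H : Subgroup P112) (l : ℕ) : Prop := ∃ σ ∈ H, pc σ = l

theorem PIn.mul {H : Subgroup P112} {a b : ℕ} (ha : PIn H a) (hb : PIn H b) :
    PIn H (compN a b) := by
  obtain ⟨σ, hσ, rfl⟩ := ha
  obtain ⟨τ, hτ, rfl⟩ := hb
  exact ⟨σ * τ, H.mul_mem hσ hτ, pc_mul σ τ⟩

theorem pin_range {H : Subgroup P112} : PIn H oneP := ⟨1, H.one_mem, pc_one⟩

/-- straight-line program on packed permutations -/
def slpN : List (ℕ × ℕ × ℕ) → List ℕ → Bool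
  | [], _ => true
  | (c, i, j) :: r, acc => Nat.beq c (compN (acc.getD i oneP) (acc.getD j oneP)) && slpN r (c :: acc)

theorem PIn.slp {H : Subgroup P112} : ∀ {r : List (ℕ × ℕ × ℕ)} {base : List ℕ},
    slpN r base = true → (∀ a ∈ base, PIn H a) →
      ∀ l, memLL (oneP :: (r.map Prod.fst ++ base)) l = true → PIn H l := by
  intro r
  induction r with
  | nil =>
    intro base _ hb l hl
    rcases List.mem_cons.1 (memLL_iff.1 hl) with rfl | hl
    · exact pin_range
    · exact hb l (by simpa using hl)
  | cons x r ih =>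
    obtain ⟨d, i, j⟩ := x
    intro base h hb l hl
    simp only [slpN, Bool.and_eq_true, Nat.beq_eq] at h
    have hget : ∀ k, PIn H (base.getD k oneP) := by
      intro k
      by_cases hk : k < base.length
      · rw [List.getD_eq_getElem _ _ hk]; exact hb _ (List.getElem_mem hk)
      · rw [List.getD_eq_default _ _ (not_lt.1 hk)]; exact pin_range
    have hd : PIn H d := h.1 ▸ (hget i).mul (hget j)
    refine ih h.2 (List.forall_mem_cons.2 ⟨hd, hb⟩) l (memLL_iff.2 ?_)
    have := memLL_iff.1 hl
    simp only [List.map_cons, List.cons_append, List.mem_cons, List.mem_append] at this ⊢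
    tauto

theorem base_pin : ∀ a ∈ [packB permA, packB permB], PIn model a := by
  intro a ha
  simp only [List.mem_cons, List.not_mem_nil, or_false] at ha
  rcases ha with rfl | rfl
  · exact ⟨pA, Subgroup.subset_closure (by simp), pc_eq (fun i => (pA_val i).symm) (by decide +kernel)⟩
  · exact ⟨pB, Subgroup.subset_closure (by simp), pc_eq (fun i => (pB_val i).symm) (by decide +kernel)⟩

theorem rows1_ok : slpN modelRows [packB permA, packB permB] = true := by decide +kernel

theorem named_ok : ([pd, pc1, pc2, pe5, pw].all fun l =>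
    memLL (oneP :: (modelRows.map Prod.fst ++ [packB permA, packB permB])) l) = true := by decide +kernel

theorem named_pin : ∀ l ∈ [pd, pc1, pc2, pe5, pw], PIn model l := fun l hl =>
  PIn.slp rows1_ok base_pin l (List.all_eq_true.1 named_ok l hl)

theorem rows2_ok : slpN modelRows2 [pd, pc1, pc2, pe5] = true := by decide +kernel

theorem second_ok : ((a1L ++ c1L ++ [pz]).all fun l =>
    memLL (oneP :: (modelRows2.map Prod.fst ++ [pd, pc1, pc2, pe5])) l) = true := by
  decide +kernel

theorem second_pin : ∀ l ∈ a1L ++ c1L ++ [pz], PIn model l := fun l hl =>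
  PIn.slp rows2_ok (fun a ha => named_pin a (by
    simp only [List.mem_cons, List.not_mem_nil, or_false] at ha ⊢; tauto)) l
    (List.all_eq_true.1 second_ok l hl)

/-- closure of the permutations with images in a list -/
def pspan (L : List ℕ) : Subgroup P112 := Subgroup.closure {σ | pc σ ∈ L}

theorem pspan_le {L : List ℕ} {H : Subgroup P112} (h : ∀ l ∈ L, PIn H l) : pspan L ≤ H := by
  rw [pspan, Subgroup.closure_le]
  intro σ hσ
  obtain ⟨τ, hτ, e⟩ := h _ hσ
  exact pc_injective e ▸ hτ

theorem a1_gens_sub : (a1G.all fun l => memLL a1L l) = true := by decide +kernel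

theorem a1_closed : (memLL a1L oneP &&
    a1L.all fun x => a1G.all fun y => memLL a1L (compN x y)) = true := by decide +kernel

theorem a1_all : (a1L.all fun y => a1G.all fun x => decide (compN x y = compN y x)) = true := by
  decide +kernel

/-- the elementary abelian subgroup of order 81 -/
def A1 : Subgroup P112 := pspan a1G

theorem PIn.span {L : List ℕ} {l : ℕ} (h : PIn model l) (hl : l ∈ L) : PIn (pspan L) l := by
  obtain ⟨σ, -, rfl⟩ := h
  exact ⟨σ, Subgroup.subset_closure hl, rfl⟩

/-- products of powers of four elements -/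
def prod4 : List ℕ :=
  a1G.foldl (fun r g => r ++ r.map (fun x => compN x g) ++
    r.map (fun x => compN (compN x g) g)) [oneP]

theorem prod4_cover : (a1L.all fun x => memLL prod4 x) = true := by decide +kernel

theorem A1_surj : ∀ x ∈ a1L, PIn A1 x := by
  intro x hx
  have hg : ∀ g ∈ a1G, PIn A1 g := fun g hg =>
    PIn.span (second_pin g (List.mem_append_left _ (List.mem_append_left _
      (memLL_iff.1 (List.all_eq_true.1 a1_gens_sub g hg))))) hg
  have key : ∀ (gs : List ℕ) (r : List ℕ), (∀ g ∈ gs, PIn A1 g) → (∀ y ∈ r, PIn A1 y) →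
      ∀ y ∈ gs.foldl (fun r g => r ++ r.map (fun x => compN x g) ++
        r.map (fun x => compN (compN x g) g)) r, PIn A1 y := by
    intro gs
    induction gs with
    | nil => intro r _ hr; exact hr
    | cons g gs ih =>
      intro r hg hr
      rw [List.foldl_cons]
      refine ih _ (fun a ha => hg a (List.mem_cons_of_mem _ ha)) fun y hy => ?_
      have hg' := hg g List.mem_cons_self
      simp only [List.mem_append, List.mem_map] at hy
      rcases hy with (hy | ⟨z, hz, rfl⟩) | ⟨z, hz, rfl⟩
      exacts [hr y hy, (hr z hz).mul hg', ((hr z hz).mul hg').mul hg']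
  exact key a1G _ hg (fun y hy => by rw [List.mem_singleton] at hy; exact hy ▸ pin_range) x
    (memLL_iff.1 (List.all_eq_true.1 prod4_cover x hx))

theorem A1_mem {σ : P112} (h : σ ∈ A1) : pc σ ∈ a1L := by
  have hc := a1_closed
  simp only [Bool.and_eq_true, List.all_eq_true, memLL_iff] at hc
  refine closure_mem_list pc_mul (L := a1L) (S := a1G) ?_ hc.2 (fun _ hg => hg) σ h
  rw [show pc 1 = oneP from pc_one]
  exact hc.1

theorem card_A1 : Nat.card A1 = 81 := by
  rw [card_eq_length pc_injective (show a1L.Nodup by decide +kernel) (fun _ h => A1_mem h) fun x hx => by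
    obtain ⟨σ, hσ, e⟩ := A1_surj x hx; exact ⟨σ, hσ, e⟩]
  decide +kernel

theorem A1_comm : ∀ x ∈ A1, ∀ y ∈ A1, x * y = y * x := by
  intro x hx y hy
  have : A1 ≤ Subgroup.centralizer {y} := pspan_le fun l hl => by
    obtain ⟨σ, -, rfl⟩ := A1_surj l (memLL_iff.1 (List.all_eq_true.1 a1_gens_sub l hl))
    refine ⟨σ, Subgroup.mem_centralizer_singleton_iff.2 (pc_injective ?_), rfl⟩
    have h := List.all_eq_true.1 (List.all_eq_true.1 a1_all _ (A1_mem hy)) _ hl
    rw [decide_eq_true_eq] at h
    rw [pc_mul, pc_mul, h]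
  exact Subgroup.mem_centralizer_singleton_iff.1 (this hx)

/-- the complement of order nine -/
def C1 : Subgroup P112 := pspan c1L

theorem c1_closed : (memLL c1L oneP &&
    c1L.all fun x => c1L.all fun y => memLL c1L (compN x y)) = true := by decide +kernel

theorem C1_surj : ∀ x ∈ c1L, PIn C1 x := fun x hx =>
  PIn.span (second_pin x (List.mem_append_left _ (List.mem_append_right _ hx))) hx

theorem C1_mem {σ : P112} (h : σ ∈ C1) : pc σ ∈ c1L := by
  have hc := c1_closed
  simp only [Bool.and_eq_true, List.all_eq_true, memLL_iff] at hc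
  refine closure_mem_list pc_mul (L := c1L) (S := c1L) ?_ hc.2 (fun _ hg => hg) σ h
  rw [show pc 1 = oneP from pc_one]
  exact hc.1

theorem card_C1 : Nat.card C1 = 9 := by
  rw [card_eq_length pc_injective (show c1L.Nodup by decide +kernel) (fun _ h => C1_mem h) fun x hx => by
    obtain ⟨σ, hσ, e⟩ := C1_surj x hx; exact ⟨σ, hσ, e⟩]
  decide +kernel

theorem norm_check : ((c1L ++ [pe5]).all fun c => a1G.all fun a =>
    a1L.any fun a' => decide (compN c a = compN a' c)) = true := by decide +kernel

theorem conj_A1 {σ : P112} (h : pc σ ∈ c1L ++ [pe5]) : ∀ x ∈ A1, σ * x * σ⁻¹ ∈ A1 := by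
  have : A1 ≤ A1.comap (MulAut.conj σ).toMonoidHom := pspan_le fun a ha => by
    obtain ⟨x, -, rfl⟩ := A1_surj a (memLL_iff.1 (List.all_eq_true.1 a1_gens_sub a ha))
    refine ⟨x, ?_, rfl⟩
    have hh := List.all_eq_true.1 (List.all_eq_true.1 norm_check _ h) _ ha
    simp only [List.any_eq_true, decide_eq_true_eq] at hh
    obtain ⟨a', ha', e⟩ := hh
    obtain ⟨z, hz, rfl⟩ := A1_surj a' ha'
    rw [← pc_mul, ← pc_mul] at e
    show σ * x * σ⁻¹ ∈ A1
    rwa [pc_injective e, mul_inv_cancel_right]
  intro x hx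
  have hmem := Subgroup.mem_comap.1 (this hx)
  exact hmem

theorem C1_le_normalizer : C1 ≤ Subgroup.normalizer (A1 : Set P112) := by
  refine pspan_le fun l hl => ?_
  obtain ⟨σ, -, rfl⟩ := C1_surj l hl
  refine ⟨σ, ?_, rfl⟩
  have hdia := conj_A1 (List.mem_append_left [pe5] hl)
  have hmap : A1.map (MulAut.conj σ).toMonoidHom = A1 := by
    refine Subgroup.eq_of_le_of_card_ge ?_ ?_
    · rintro y ⟨x, hx, rfl⟩; exact hdia x hx
    · exact (Nat.card_congr (Subgroup.equivMapOfInjective A1 _ (MulEquiv.injective _)).toEquiv).le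
  rw [Subgroup.mem_normalizer_iff]
  intro h
  refine ⟨hdia h, fun hh => ?_⟩
  rw [← hmap] at hh
  obtain ⟨x, hx, e⟩ := hh
  have : x = h := (MulEquiv.injective (MulAut.conj σ)) e
  exact this ▸ hx

theorem A1_inf_C1 : A1 ⊓ C1 = ⊥ := by
  rw [eq_bot_iff]
  rintro σ ⟨hA, hC⟩
  have h := List.all_eq_true.1 (show (c1L.all fun c => decide (c = oneP) || !memLL a1L c) = true by
    decide +kernel) _ (C1_mem hC)
  simp only [Bool.or_eq_true, decide_eq_true_eq, Bool.not_eq_true'] at h
  rw [Subgroup.mem_bot]
  rcases h with h | h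
  · exact pc_injective (h.trans (pc_one).symm)
  · rw [← Bool.not_eq_true] at h
    exact absurd (memLL_iff.2 (A1_mem hA)) h

/-- a Sylow 3-subgroup of the model -/
def P1 : Subgroup P112 := A1 ⊔ C1

theorem P1_le : P1 ≤ model := sup_le
  (pspan_le fun l hl => second_pin l (List.mem_append_left _ (List.mem_append_left _
    (memLL_iff.1 (List.all_eq_true.1 a1_gens_sub l hl)))))
  (pspan_le fun l hl => second_pin l (List.mem_append_left _ (List.mem_append_right _ hl)))

theorem card_P1 : Nat.card P1 = 3 ^ 6 := by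
  rw [P1, sup_comm, CfsgLib.Coprime.card_sup_of_inf_eq_bot C1_le_normalizer
    (by rw [inf_comm, A1_inf_C1]), card_A1, card_C1]
  norm_num

theorem P1_decomp {σ : P112} (hσ : σ ∈ P1) : ∃ a ∈ A1, ∃ c ∈ C1, a * c = σ := by
  have h : σ ∈ ((A1 : Set P112) * (C1 : Set P112)) := by
    rw [← Subgroup.coe_mul_of_right_le_normalizer_left A1 C1 C1_le_normalizer]; exact hσ
  obtain ⟨a, ha, c, hc, e⟩ := h
  exact ⟨a, ha, c, hc, e⟩

theorem A1_cent : (c1L.all fun c => decide (c = oneP) ||
    Nat.blt ((a1L.filter fun x => decide (compN x c = compN c x)).length * 3) 81) = true := by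
  decide +kernel

theorem A1_cent_all : Nat.blt ((a1L.filter fun x => c1L.all fun c =>
    decide (compN x c = compN c x)).length * 9) 81 = true := by decide +kernel

theorem A1_unique {B : Subgroup P112} (hBP : B ≤ P1) (hB : ∀ x ∈ B, ∀ y ∈ B, x * y = y * x)
    (hcard : Nat.card B = Nat.card A1) : B = A1 := by
  refine eq_of_abelian_index_nine card_C1 A1_comm (fun c hc hne => ?_) ?_
    (fun b hb => P1_decomp (hBP hb)) hB hcard
  · have h := List.all_eq_true.1 A1_cent _ (C1_mem hc)
    simp only [Bool.or_eq_true, decide_eq_true_eq, Nat.blt_eq] at h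
    have hle := ncard_le_filter pc_injective (L := a1L)
      (p := fun x => decide (compN x (pc c) = compN (pc c) x))
      (S := {x : P112 | x ∈ A1 ∧ x * c = c * x}) fun g hg => ⟨A1_mem hg.1, by
        rw [decide_eq_true_eq, ← pc_mul, ← pc_mul, hg.2]⟩
    rw [card_A1]
    have := h.resolve_left fun e => hne (pc_injective (e.trans (pc_one).symm))
    omega
  · have hle := ncard_le_filter pc_injective (L := a1L)
      (p := fun x => c1L.all fun c => decide (compN x c = compN c x))
      (S := {x : P112 | x ∈ A1 ∧ ∀ c ∈ C1, x * c = c * x}) fun g hg => ⟨A1_mem hg.1, by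
        rw [List.all_eq_true]
        intro c hc
        obtain ⟨k, hk, rfl⟩ := C1_surj c hc
        rw [decide_eq_true_eq, ← pc_mul, ← pc_mul, hg.2 k hk]⟩
    have h := A1_cent_all
    rw [Nat.blt_eq] at h
    rw [card_A1]
    omega

theorem centre_check : (a1L.all fun x => decide (x = oneP) || decide (x = pz) ||
    decide (x = compN pz pz) || !(c1L.all fun c => decide (compN x c = compN c x))) = true := by
  decide +kernel

theorem w_check : decide (compN pw pz = compN pz pw) &&
    decide (compN (compN pw pw) (compN pw pw) = oneP) &&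
    !decide (compN pw pw = oneP) = true := by decide +kernel

theorem exists_w {z : P112} (hz : z ∈ P1) (hz1 : z ≠ 1) (hc : ∀ x ∈ P1, x * z = z * x) :
    ∃ w ∈ model, w * z = z * w ∧ w ^ 4 = 1 ∧ w ^ 2 ≠ 1 := by
  obtain ⟨a, ha, c, hc1, rfl⟩ := P1_decomp hz
  have hc' : c = 1 := by
    by_contra hne
    have hcomm : ∀ x ∈ A1, x * c = c * x := fun x hx => by
      have e := hc x (Subgroup.mem_sup_left hx)
      rw [← mul_assoc, A1_comm x hx a ha, mul_assoc, mul_assoc] at e
      exact mul_left_cancel e
    have h := List.all_eq_true.1 A1_cent _ (C1_mem hc1)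
    simp only [Bool.or_eq_true, decide_eq_true_eq, Nat.blt_eq] at h
    have := h.resolve_left fun e => hne (pc_injective (e.trans (pc_one).symm))
    have hle := ncard_le_filter pc_injective (L := a1L)
      (p := fun x => decide (compN x (pc c) = compN (pc c) x))
      (S := (A1 : Set P112)) fun g hg => ⟨A1_mem hg, by
        rw [decide_eq_true_eq, ← pc_mul, ← pc_mul, hcomm g hg]⟩
    rw [← Nat.card_coe_set_eq] at hle
    have h81 : Nat.card ((A1 : Set P112) : Type) = 81 := card_A1
    omega
  subst hc'
  rw [mul_one] at hz hz1 hc ⊢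
  have h := List.all_eq_true.1 centre_check _ (A1_mem ha)
  simp only [Bool.or_eq_true, decide_eq_true_eq, Bool.not_eq_true'] at h
  obtain ⟨w, hw, ew⟩ := named_pin pw (by simp)
  obtain ⟨z0, -, ez⟩ := second_pin pz (by simp)
  have hwc := w_check
  simp only [Bool.and_eq_true, decide_eq_true_eq, Bool.not_eq_true', decide_eq_false_iff_not] at hwc
  have hwz : w * z0 = z0 * w := pc_injective (by rw [pc_mul, pc_mul, ew, ez, hwc.1.1])
  refine ⟨w, hw, ?_, ?_, ?_⟩
  · rcases h with ((h | h) | h) | h
    · exact absurd (pc_injective (h.trans (pc_one).symm)) hz1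
    · rw [show a = z0 from pc_injective (h.trans ez.symm), hwz]
    · rw [show a = z0 * z0 from pc_injective (by rw [h, pc_mul, ez])]
      exact (Commute.mul_right hwz hwz).eq
    · exfalso
      rw [← Bool.not_eq_true, List.all_eq_true] at h
      refine h fun x hx => ?_
      obtain ⟨k, hk, rfl⟩ := C1_surj x hx
      rw [decide_eq_true_eq, ← pc_mul, ← pc_mul, hc k (Subgroup.mem_sup_right hk)]
  · refine pc_injective ?_
    rw [show w ^ 4 = (w * w) * (w * w) by simp [pow_succ, mul_assoc], pc_mul, pc_mul, ew, hwc.1.2,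
      show pc 1 = oneP from pc_one]
  · intro e
    apply hwc.2
    rw [← ew, ← pc_mul, ← pow_two, e]
    exact pc_one

theorem five_check : decide (compN (compN (compN pe5 pe5) (compN pe5 pe5)) pe5 =
    oneP) && !decide (pe5 = oneP) = true := by decide +kernel

theorem exists_five : ∃ f ∈ model, f ^ 5 = 1 ∧ f ≠ 1 ∧ ∀ x ∈ A1, f * x * f⁻¹ ∈ A1 := by
  obtain ⟨f, hf, ef⟩ := named_pin pe5 (by simp)
  have h := five_check
  simp only [Bool.and_eq_true, decide_eq_true_eq, Bool.not_eq_true', decide_eq_false_iff_not] at h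
  have h1 : pc 1 = oneP := pc_one
  refine ⟨f, hf, pc_injective ?_, fun e => h.2 (by rw [← ef, e, h1]), conj_A1 (by simp [ef])⟩
  rw [show f ^ 5 = (f * f) * (f * f) * f by simp [pow_succ, mul_assoc], pc_mul, pc_mul, pc_mul, ef, h.1, h1]

end CfsgLib.Spor.U62
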