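import Cfsg.Agent.Lib.Spor.U62.Act
import Cfsg.Agent.Lib.Spor.U62.Model
import Cfsg.Agent.Lib.Classical.UnitarySimple

/-!
The subgroups `3.U₄(3)` of `SU₆(2)`.
-/

set_option autoImplicit false
set_option maxRecDepth 100000

namespace CfsgLib.Spor.U62

open Matrix
open CfsgLib.Spor.McLUnitary (pA pB model)
open scoped Pointwise

variable {F9 : Type} [Field F9] [Fintype F9]

/-- the shape required of the subgroups -/
def Cover (F9 : Type) [Field F9] [Fintype F9] (K : Subgroup U6) : Prop :=
  Nat.card ↥(Subgroup.center ↥K) = 3 ∧ Nonempty (↥K ⧸ Subgroup.center ↥K ≃* Cfsg.PSU 4 F9 3)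

theorem card_model (hF9 : Fintype.card F9 = 9) : Nat.card model = 3265920 := by
  obtain ⟨e⟩ := CfsgLib.Spor.McLUnitary.psu_equiv_model hF9
  rw [← Nat.card_congr e.toEquiv, CfsgLib.Spor.McLUnitary.card_PSU_four_three hF9]

theorem model_noncomm_check : decide (compN pd pe5 ≠ compN pe5 pd) = true := by decide +kernel

theorem center_model (hF9 : Fintype.card F9 = 9) : Subgroup.center (↥model) = ⊥ := by
  obtain ⟨e⟩ := CfsgLib.Spor.McLUnitary.psu_equiv_model hF9
  haveI : IsSimpleGroup (Cfsg.PSU 4 F9 3) := CfsgLib.Classical.Unitary.isSimpleGroup_PSU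
    (by rw [Nat.card_eq_fintype_card, hF9]; norm_num) (by norm_num) (by norm_num)
  haveI : Nontrivial (↥model) := e.symm.toEquiv.nontrivial
  haveI : IsSimpleGroup (↥model) := IsSimpleGroup.isSimpleGroup_of_surjective e.toMonoidHom e.surjective
  refine (Subgroup.Normal.eq_bot_or_eq_top (inferInstance : (Subgroup.center (↥model)).Normal)).resolve_right ?_
  · intro h
    obtain ⟨x, hx, ex⟩ := named_pin pd (by simp)
    obtain ⟨y, hy, ey⟩ := named_pin pe5 (by simp)
    have hmem : (⟨x, hx⟩ : model) ∈ Subgroup.center (↥model) := h ▸ Subgroup.mem_top _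
    have := congrArg (fun m : model => pc (m : P112)) (Subgroup.mem_center_iff.1 hmem ⟨y, hy⟩)
    simp only [Subgroup.coe_mul, pc_mul, ex, ey] at this
    exact of_decide_eq_true model_noncomm_check this.symm

theorem noncomm_r : decide (mulC Cr Ce5 ≠ mulC Ce5 Cr) = true := by decide +kernel

/-- the code of a scalar matrix -/
def scC (c : ℕ) : ℕ := build fun i j => if Nat.beq i j then c else 0

theorem scalar_codes : ((List.range 4).all fun c =>
    Nat.beq c 0 || inB diagL (scC c)) = true := by decide +kernel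

theorem cd_of_scalar {g : U6} {c : K4} (h : mat g = c • 1) :
    cd g = scC (kCode c) := by
  rw [cd, codeM, h, scC]
  unfold build
  congr 1
  refine List.map_congr_left fun n hn => ?_
  have hn' := List.mem_range.1 hn
  have hi : n / 6 < 6 := by omega
  have hj : n % 6 < 6 := Nat.mod_lt _ (by norm_num)
  beta_reduce
  rw [Matrix.smul_apply, Matrix.one_apply]
  by_cases he : n / 6 = n % 6
  · rw [if_pos (by rw [he]), if_pos (by rw [he]; exact Nat.beq_refl _), smul_eq_mul, mul_one]
  · rw [if_neg (fun e => he (by simpa [Fin.ext_iff, Nat.mod_eq_of_lt hi, Nat.mod_eq_of_lt hj] using e)),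
      if_neg (by simpa [Nat.beq_eq] using he), smul_zero]
    decide +kernel

theorem isScalar_mem_A {g : U6} (h : IsScalar g) : g ∈ A := by
  obtain ⟨c, hc⟩ := h
  have hne : kCode c ≠ 0 := by
    intro e
    have h0 : c = 0 := by rw [← kOf_code c, e]; decide +kernel
    have hd : (mat g).det = 1 := g.1.2
    rw [hc, h0, zero_smul, Matrix.det_zero] at hd
    exact zero_ne_one hd
  have h := List.all_eq_true.1 scalar_codes (kCode c) (List.mem_range.2 (kCode_lt c))
  simp only [Bool.or_eq_true, Nat.beq_eq, inB, List.any_eq_true] at h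
  obtain ⟨y, hy, e⟩ := h.resolve_left hne
  rw [A_mem_iff, cd_of_scalar hc, e]
  exact hy

theorem isScalar_iff {g : U6} : IsScalar g ↔
    cd g ∈ ([1, 2, 3].map scC) := by
  constructor
  · rintro ⟨c, hc⟩
    have hd : (mat g).det = 1 := g.1.2
    have hne : kCode c ≠ 0 := by
      intro e
      have h0 : c = 0 := by rw [← kOf_code c, e]; decide +kernel
      rw [hc, h0, zero_smul, Matrix.det_zero] at hd
      exact zero_ne_one hd
    rw [cd_of_scalar hc, List.mem_map]
    refine ⟨kCode c, ?_, rfl⟩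
    have := kCode_lt c
    simp only [List.mem_cons, List.not_mem_nil, or_false]
    omega
  · intro h
    obtain ⟨c, hc, e⟩ := List.mem_map.1 h
    refine ⟨kOf c, ?_⟩
    rw [mat_eq, ← e]
    refine Matrix.ext fun i j => ?_
    show kOf (ent (scC c) i j) = _
    have hc' : c < 4 := by simp only [List.mem_cons, List.not_mem_nil, or_false] at hc; omega
    rw [scC, ent_build (fun a b => by split <;> omega) i.2 j.2, Matrix.smul_apply, Matrix.one_apply]
    by_cases he : i = j
    · rw [if_pos (by rw [he]; exact Nat.beq_refl _), if_pos he, smul_eq_mul, mul_one]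
    · rw [if_neg (by simpa [Nat.beq_eq] using Fin.val_injective.ne he), if_neg he, smul_zero]
      decide +kernel

theorem KS_spec (hF9 : Fintype.card F9 = 9) (i : Fin 3) :
    Cover F9 (KS i) ∧ Nat.card (KS i) = 3 * 3265920 := by
  have hker : (frameHom i).ker = Subgroup.center (↥(KS i)) := by
    refine le_antisymm (fun g hg => ?_) fun g hg => ?_
    · rw [Subgroup.mem_center_iff]
      exact fun x => Subtype.ext ((frameHom_ker i hg).commute x).symm
    · rw [MonoidHom.mem_ker]
      have : frameHom i g ∈ Subgroup.center (↥model) := by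
        rw [Subgroup.mem_center_iff]
        intro m
        obtain ⟨x, rfl⟩ := frameHom_surjective i m
        rw [← map_mul, ← map_mul, Subgroup.mem_center_iff.1 hg x]
      rwa [center_model hF9, Subgroup.mem_bot] at this
  have hsc : ∀ g : KS i, IsScalar (g : U6) ↔ g ∈ Subgroup.center (↥(KS i)) := by
    intro g
    refine ⟨fun h => ?_, fun h => frameHom_ker i (by rwa [← hker] at h)⟩
    rw [Subgroup.mem_center_iff]
    exact fun x => Subtype.ext (h.commute x).symm
  have hz : Nat.card (Subgroup.center (↥(KS i))) = 3 := by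
    let Z : Subgroup U6 := (Subgroup.center (↥(KS i))).map (KS i).subtype
    rw [show Nat.card (Subgroup.center (↥(KS i))) = Nat.card Z from
      Nat.card_congr (Subgroup.equivMapOfInjective _ _ (KS i).subtype_injective).toEquiv]
    rw [card_eq_length cd_injective (L := [1, 2, 3].map scC) (by decide +kernel) ?_ ?_]
    · rfl
    · rintro _ ⟨g, hg, rfl⟩
      exact isScalar_iff.1 ((hsc g).2 hg)
    · intro x hx
      have hd : x ∈ diagL := by
        obtain ⟨c, hc, rfl⟩ := List.mem_map.1 hx
        have h := List.all_eq_true.1 scalar_codes c (List.mem_range.2 (by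
          simp only [List.mem_cons, List.not_mem_nil, or_false] at hc; omega))
        simp only [Bool.or_eq_true, Nat.beq_eq, inB, List.any_eq_true] at h
        obtain ⟨y, hy, e⟩ := h.resolve_left (by
          simp only [List.mem_cons, List.not_mem_nil, or_false] at hc; omega)
        rw [e]; exact hy
      obtain ⟨g, hg, e⟩ := diagL_in_M0 x hd
      have hgK := M0_le i hg
      refine ⟨g, ⟨⟨g, hgK⟩, (hsc ⟨g, hgK⟩).1 (isScalar_iff.2 (by rw [e]; exact hx)), rfl⟩, e⟩
  obtain ⟨e⟩ := CfsgLib.Spor.McLUnitary.psu_equiv_model hF9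
  let q := (QuotientGroup.quotientMulEquivOfEq hker.symm).trans
    (QuotientGroup.quotientKerEquivOfSurjective (frameHom i) (frameHom_surjective i))
  refine ⟨⟨hz, ⟨q.trans e.symm⟩⟩, ?_⟩
  rw [Subgroup.card_eq_card_quotient_mul_card_subgroup (Subgroup.center (↥(KS i))), hz,
    Nat.card_congr q.toEquiv, card_model hF9]

theorem card_cover (hF9 : Fintype.card F9 = 9) {K : Subgroup U6} (h : Cover F9 K) :
    Nat.card K = 3 * 3265920 := by
  obtain ⟨hz, ⟨e⟩⟩ := h
  rw [Subgroup.card_eq_card_quotient_mul_card_subgroup (Subgroup.center ↥K), hz,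
    Nat.card_congr e.toEquiv, CfsgLib.Spor.McLUnitary.card_PSU_four_three hF9]

theorem center_transport {G H : Type*} [Group G] [Group H] (f : G ≃* H) :
    (Subgroup.center G).map f.toMonoidHom = Subgroup.center H := by
  ext x
  rw [Subgroup.mem_map_equiv, Subgroup.mem_center_iff, Subgroup.mem_center_iff]
  constructor
  · intro hx y
    refine f.symm.injective ?_
    rw [map_mul, map_mul]
    exact hx _
  · intro hx y
    refine f.injective ?_
    rw [map_mul, map_mul, MulEquiv.apply_symm_apply]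
    exact hx _

theorem cover_transport {G H P : Type*} [Group G] [Group H] [Group P] (f : G ≃* H)
    (hz : Nat.card (Subgroup.center G) = 3) (e : G ⧸ Subgroup.center G ≃* P) :
    Nat.card (Subgroup.center H) = 3 ∧ Nonempty (H ⧸ Subgroup.center H ≃* P) := by
  refine ⟨?_, ⟨(QuotientGroup.congr _ _ f (center_transport f)).symm.trans e⟩⟩
  rw [← center_transport f]
  exact (Nat.card_congr (Subgroup.equivMapOfInjective _ _ f.injective).toEquiv).symm.trans hz

theorem Cover.map {K : Subgroup U6} (h : Cover F9 K) (g : U6) :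
    Cover F9 (K.map (MulAut.conj g).toMonoidHom) := by
  obtain ⟨hz, ⟨e⟩⟩ := h
  exact cover_transport (Subgroup.equivMapOfInjective K _ (MulEquiv.injective (MulAut.conj g))) hz e

theorem trace_check : ((([1, 2, 3].map scC).all fun s =>
    Nat.beq s oneC || !Nat.beq
      (((List.range 6).map fun k => ent (mulC s Cr) k k).foldl Nat.xor 0)
      (((List.range 6).map fun k => ent Cr k k).foldl Nat.xor 0)) = true) := by decide +kernel

theorem trace_code (c : ℕ) :
    (ofCode c).trace = kOf (((List.range 6).map fun k => ent c k k).foldl Nat.xor 0) := by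
  show ∑ i, ofCode c i i = _
  rw [Fin.sum_univ_six]
  show _ = kOf (Nat.xor (Nat.xor (Nat.xor (Nat.xor (Nat.xor (Nat.xor 0 (ent c 0 0)) (ent c 1 1))
    (ent c 2 2)) (ent c 3 3)) (ent c 4 4)) (ent c 5 5))
  have l := fun k => ent_lt c k k
  have h0 : (0 : ℕ) < 4 := by norm_num
  rw [kOf_add _ (xor_lt (xor_lt (xor_lt (xor_lt (xor_lt h0 (l 0)) (l 1)) (l 2)) (l 3)) (l 4)) _ (l 5),
    kOf_add _ (xor_lt (xor_lt (xor_lt (xor_lt h0 (l 0)) (l 1)) (l 2)) (l 3)) _ (l 4),
    kOf_add _ (xor_lt (xor_lt (xor_lt h0 (l 0)) (l 1)) (l 2)) _ (l 3),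
    kOf_add _ (xor_lt (xor_lt h0 (l 0)) (l 1)) _ (l 2), kOf_add _ (xor_lt h0 (l 0)) _ (l 1),
    kOf_add _ h0 _ (l 0), show kOf 0 = 0 by decide +kernel, zero_add]
  rfl

theorem diag_cd_scalar_check : (diagL.all fun a =>
    !([Cc1, Cc2, Ce5].all fun c => Nat.beq (mulC a c) (mulC c a)) ||
      inB ([1, 2, 3].map scC) a) = true := by
  decide +kernel

theorem A_cent_check : (cycL.all fun c => Nat.beq c oneC ||
    diagL.any fun a => !Nat.beq (mulC a c) (mulC c a)) = true := by decide +kernel

theorem Cr_facts : (inB diagL Cr && Nat.beq (mulC Cr Cc1) (mulC Cc1 Cr) &&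
    Nat.beq (mulC Cr Cc2) (mulC Cc2 Cr)) = true := by decide +kernel

theorem foldl_xor_lt (c : ℕ) (f : ℕ) :
    ((List.range f).map fun k => ent c k k).foldl Nat.xor 0 < 4 := by
  induction f with
  | zero => simp
  | succ n ih =>
    rw [List.range_succ, List.map_append, List.foldl_append]
    exact xor_lt ih (ent_lt _ _ _)

theorem classify_sylow (hF9 : Fintype.card F9 = 9) {K : Subgroup U6} (hK : Cover F9 K)
    (hP : P0 ≤ K) : ∃ i : Fin 3, KS i = K := by
  have hcard := card_cover hF9 hK
  obtain ⟨hz, ⟨e0⟩⟩ := hK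
  obtain ⟨e1⟩ := CfsgLib.Spor.McLUnitary.psu_equiv_model hF9
  let π0 : K →* P112 := model.subtype.comp
    ((e0.trans e1).toMonoidHom.comp (QuotientGroup.mk' (Subgroup.center ↥K)))
  have hπ0ker : ∀ x : K, π0 x = 1 ↔ x ∈ Subgroup.center ↥K := by
    intro x
    show ((e0.trans e1) (QuotientGroup.mk x) : P112) = 1 ↔ _
    rw [OneMemClass.coe_eq_one, MulEquiv.map_eq_one_iff, QuotientGroup.eq_one_iff]
  have hπ0mem : ∀ x, π0 x ∈ model := fun x => ((e0.trans e1) (QuotientGroup.mk x)).2
  have hZA : ∀ x : K, x ∈ Subgroup.center ↥K → (x : U6) ∈ A := by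
    intro x hx
    haveI : Fact (Nat.Prime 3) := ⟨by norm_num⟩
    have hxP : (x : U6) ∈ P0 := by
      have hle : P0 ≤ P0 ⊔ Subgroup.zpowers (x : U6) := le_sup_left
      have hx3 : (x : U6) ^ 3 = 1 := by
        have := pow_card_eq_one' (x := (⟨x, hx⟩ : Subgroup.center ↥K))
        rw [hz] at this
        exact congrArg (fun y : Subgroup.center ↥K => ((y : K) : U6)) this
      have hp1 : IsPGroup 3 P0 := IsPGroup.of_card card_P0
      have hp2 : IsPGroup 3 (Subgroup.zpowers (x : U6)) := by
        refine fun ⟨y, hy⟩ => ⟨1, Subtype.ext ?_⟩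
        obtain ⟨n, rfl⟩ := Subgroup.mem_zpowers_iff.1 hy
        rw [pow_one]
        show ((x : U6) ^ n) ^ 3 = 1
        rw [← zpow_natCast, ← _root_.zpow_mul, mul_comm, _root_.zpow_mul, zpow_natCast, hx3, _root_.one_zpow]
      have hnorm : Subgroup.zpowers (x : U6) ≤ Subgroup.normalizer (P0 : Set U6) := by
        rw [Subgroup.zpowers_le, Subgroup.mem_normalizer_iff]
        intro y
        have hc : ∀ y ∈ P0, (x : U6) * y = y * x := fun y hy =>
          (congrArg Subtype.val (Subgroup.mem_center_iff.1 hx ⟨y, hP hy⟩)).symm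
        constructor
        · intro hy; rwa [hc y hy, mul_inv_cancel_right]
        · intro hy
          have e : y = (x : U6)⁻¹ * ((x : U6) * y * (x : U6)⁻¹) * (x : U6) := by group
          rw [e, mul_assoc, ← hc _ hy, inv_mul_cancel_left]
          exact hy
      have hs : IsPGroup 3 ↥(P0 ⊔ Subgroup.zpowers (x : U6)) :=
        hp1.to_sup_of_normal_left' hp2 hnorm
      obtain ⟨n, hn⟩ := IsPGroup.iff_card.1 hs
      have hd := Subgroup.card_subgroup_dvd_card (P0 ⊔ Subgroup.zpowers (x : U6))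
      rw [hn, card_U6_val] at hd
      have hn7 : n ≤ 7 := by
        by_contra hlt
        have h38 : 3 ^ 8 ∣ 3 ^ 7 * 12615680 := dvd_trans (pow_dvd_pow 3 (by omega)) hd
        norm_num at h38
      have heq := Subgroup.eq_of_le_of_card_ge hle (by
        rw [hn, card_P0]; exact Nat.pow_le_pow_right (by norm_num) hn7)
      rw [heq]; exact Subgroup.mem_sup_right (Subgroup.mem_zpowers _)
    obtain ⟨a, ha, c, hc, eac⟩ := P0_decomp hxP
    have hcent : ∀ b ∈ A, b * c = c * b := by
      intro b hb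
      have h := congrArg Subtype.val (Subgroup.mem_center_iff.1 hx ⟨b, hP (Subgroup.mem_sup_left hb)⟩)
      change b * (x : U6) = (x : U6) * b at h
      rw [← eac, ← mul_assoc, A_comm b hb a ha, mul_assoc, mul_assoc] at h
      exact mul_left_cancel h
    have h := List.all_eq_true.1 A_cent_check _ (C_mem hc)
    simp only [Bool.or_eq_true, Nat.beq_eq, List.any_eq_true, Bool.not_eq_true'] at h
    rcases h with h | ⟨b, hb, hne⟩
    · rw [← eac, cd_injective (h.trans cd_one.symm), mul_one]; exact ha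
    · exfalso
      obtain ⟨g, -, rfl⟩ := diagL_in_top b hb
      rw [← Bool.not_eq_true, Nat.beq_eq, ← cd_mul, ← cd_mul] at hne
      exact hne (congrArg cd (hcent g (A_mem_iff.2 hb)))
  haveI : Fact (Nat.Prime 3) := ⟨by norm_num⟩
  let PK : Subgroup K := P0.subgroupOf K
  have hPKcard : Nat.card PK = 3 ^ 7 := by
    rw [Nat.card_congr (Subgroup.subgroupOfEquivOfLe hP).toEquiv, card_P0]
  have himg : ∀ S : Subgroup K, Subgroup.center ↥K ≤ S → Nat.card (S.map π0) * 3 = Nat.card S := by
    intro S hS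
    let f := π0.subgroupMap S
    have hk : f.ker = (Subgroup.center ↥K).subgroupOf S := by
      ext y
      rw [MonoidHom.mem_ker, Subgroup.mem_subgroupOf, ← hπ0ker, ← OneMemClass.coe_eq_one]
      rfl
    rw [Subgroup.card_eq_card_quotient_mul_card_subgroup f.ker,
      Nat.card_congr (QuotientGroup.quotientKerEquivOfSurjective f (π0.subgroupMap_surjective S)).toEquiv,
      hk, Nat.card_congr (Subgroup.subgroupOfEquivOfLe hS).toEquiv, hz]
  have hZPK : Subgroup.center ↥K ≤ PK := fun x hx => Subgroup.mem_sup_left (hZA x hx)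
  have hQcard : Nat.card (PK.map π0) = 3 ^ 6 := by
    have := himg PK hZPK
    rw [hPKcard] at this
    omega
  have hQle : PK.map π0 ≤ model := by rintro _ ⟨x, -, rfl⟩; exact hπ0mem x
  haveI : Finite model := inferInstance
  have hsub : ∀ Q : Subgroup P112, Q ≤ model → Nat.card Q = 3 ^ 6 →
      ∃ S : Sylow 3 model, (S : Subgroup model) = Q.subgroupOf model := by
    intro Q hQ hc
    have hQc : Nat.card (Q.subgroupOf model) = 3 ^ 6 := by
      rw [Nat.card_congr (Subgroup.subgroupOfEquivOfLe hQ).toEquiv, hc]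
    refine ⟨Sylow.ofCard (Q.subgroupOf model) ?_, rfl⟩
    rw [hQc, card_model hF9, show (3265920 : ℕ) = 3 ^ 6 * 4480 by norm_num,
      Nat.factorization_mul (by norm_num) (by norm_num), Finsupp.add_apply,
      Nat.Prime.factorization_pow (by norm_num), Finsupp.single_eq_same,
      Nat.factorization_eq_zero_of_not_dvd (by norm_num), add_zero]
  obtain ⟨S0, hS0⟩ := hsub _ hQle hQcard
  obtain ⟨S1, hS1⟩ := hsub P1 P1_le card_P1
  obtain ⟨m, hm⟩ := MulAction.exists_smul_eq model S0 S1
  let φ : K →* P112 := (MulAut.conj (m : P112)).toMonoidHom.comp π0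
  have hφker : ∀ x : K, φ x = 1 ↔ x ∈ Subgroup.center ↥K := fun x => by
    rw [← hπ0ker]; exact (MulAut.conj (m : P112)).map_eq_one_iff
  have hφmem : ∀ x, φ x ∈ model := fun x =>
    model.mul_mem (model.mul_mem m.2 (hπ0mem x)) (model.inv_mem m.2)
  have hφsurj : ∀ y ∈ model, ∃ x, φ x = y := by
    intro y hy
    obtain ⟨q, hq⟩ := (e0.trans e1).surjective ⟨(m : P112)⁻¹ * y * m,
      model.mul_mem (model.mul_mem (model.inv_mem m.2) hy) m.2⟩
    obtain ⟨x, rfl⟩ := QuotientGroup.mk_surjective q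
    refine ⟨x, ?_⟩
    show (m : P112) * ((e0.trans e1) (QuotientGroup.mk x) : P112) * (m : P112)⁻¹ = y
    rw [hq]
    group
  have hmapcard : ∀ S : Subgroup K, Nat.card (S.map φ) = Nat.card (S.map π0) := by
    intro S
    rw [show φ = (MulAut.conj (m : P112)).toMonoidHom.comp π0 from rfl, ← Subgroup.map_map]
    exact (Nat.card_congr (Subgroup.equivMapOfInjective _ _ (MulEquiv.injective _)).toEquiv).symm
  have hPKmap : PK.map φ = P1 := by
    refine Subgroup.eq_of_le_of_card_ge ?_ (by rw [hmapcard, hQcard, card_P1])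
    rintro _ ⟨x, hx, rfl⟩
    have hmemS : (⟨π0 x, hπ0mem x⟩ : model) ∈ (S0 : Subgroup model) := by
      rw [hS0, Subgroup.mem_subgroupOf]; exact ⟨x, hx, rfl⟩
    have h2 := Subgroup.smul_mem_pointwise_smul _ (MulAut.conj m) _ hmemS
    rw [show MulAut.conj m • (S0 : Subgroup model) = (S1 : Subgroup model) by rw [← hm]; rfl,
      hS1, Subgroup.mem_subgroupOf] at h2
    exact h2
  let AK : Subgroup K := A.subgroupOf K
  have hAle : A ≤ K := le_trans le_sup_left hP
  have hZAK : Subgroup.center ↥K ≤ AK := fun x hx => hZA x hx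
  have hAmap : AK.map φ = A1 := by
    refine A1_unique ?_ ?_ ?_
    · rw [← hPKmap]
      exact Subgroup.map_mono fun x hx => Subgroup.mem_sup_left hx
    · rintro _ ⟨x, hx, rfl⟩ _ ⟨y, hy, rfl⟩
      rw [← map_mul, ← map_mul]
      exact congrArg φ (Subtype.ext (A_comm _ hx _ hy))
    · have := himg AK hZAK
      rw [Nat.card_congr (Subgroup.subgroupOfEquivOfLe hAle).toEquiv, card_A] at this
      rw [hmapcard, card_A1]
      omega
  have hAback : ∀ x : K, φ x ∈ A1 → (x : U6) ∈ A := by
    intro x hx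
    rw [← hAmap] at hx
    obtain ⟨a, ha, e⟩ := hx
    have : a⁻¹ * x ∈ Subgroup.center ↥K := (hφker _).1 (by rw [map_mul, map_inv, e, inv_mul_cancel])
    have h2 := A.mul_mem (show (a : U6) ∈ A from ha) (hZA _ this)
    rwa [Subgroup.coe_mul, Subgroup.coe_inv, mul_inv_cancel_left] at h2
  have hc3 : ∀ x : K, x ∈ Subgroup.center ↥K → x ^ 3 = 1 := by
    intro x hx
    have := pow_card_eq_one' (x := (⟨x, hx⟩ : Subgroup.center ↥K))
    rw [hz] at this
    exact congrArg Subtype.val this
  obtain ⟨f, hf, hf5, hf1, hfn⟩ := exists_five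
  obtain ⟨y, hy⟩ := hφsurj f hf
  have hc1 : In K Cc1 := by
    obtain ⟨g, hg, e⟩ := C_gens Cc1 (by simp); exact ⟨g, hP (Subgroup.mem_sup_right hg), e⟩
  have hc2 : In K Cc2 := by
    obtain ⟨g, hg, e⟩ := C_gens Cc2 (by simp); exact ⟨g, hP (Subgroup.mem_sup_right hg), e⟩
  have he5 : In K Ce5 := by
    have hy5 : y ^ 5 ∈ Subgroup.center ↥K := (hφker _).1 (by rw [map_pow, hy, hf5])
    refine e5_of_order_five hc1 hc2 hAle (g := ((y ^ 3 : K) : U6)) (y ^ 3).2 (fun a ha => ?_) ?_ ?_
    · have : φ (y ^ 3 * ⟨a, hAle ha⟩ * (y ^ 3)⁻¹) ∈ A1 := by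
        rw [map_mul, map_mul, map_inv, map_pow, hy]
        have h0 : φ ⟨a, hAle ha⟩ ∈ A1 :=
          hAmap.le (Subgroup.mem_map_of_mem φ (show (⟨a, hAle ha⟩ : K) ∈ AK from ha))
        generalize φ ⟨a, hAle ha⟩ = t at h0 ⊢
        have e : f ^ 3 * t * (f ^ 3)⁻¹ = f * (f * (f * t * f⁻¹) * f⁻¹) * f⁻¹ := by
          simp [pow_succ, mul_assoc]
        rw [e]
        exact hfn _ (hfn _ (hfn _ h0))
      have h2 := hAback _ this
      simpa only [Subgroup.coe_mul, Subgroup.coe_inv] using h2
    · rw [← SubmonoidClass.coe_pow, ← pow_mul, show 3 * 5 = 5 * 3 from rfl, pow_mul, hc3 _ hy5]; rfl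
    · intro e
      have e' : (y ^ 3 : K) = 1 := Subtype.ext e
      have h3 : f ^ 3 = 1 := by rw [← hy, ← map_pow, e', map_one]
      apply hf1
      have h6 : f ^ 6 = 1 := by rw [show 6 = 3 * 2 from rfl, pow_mul, h3, one_pow]
      calc f = f ^ 6 * (f ^ 5)⁻¹ := by group
        _ = 1 := by rw [h6, hf5, inv_one, mul_one]
  have hb : ∀ c ∈ [Cd, Cc1, Cc2, Ce5], In K c := by
    intro c hc
    simp only [List.mem_cons, List.not_mem_nil, or_false] at hc
    rcases hc with rfl | rfl | rfl | rfl
    · have hd : Cd ∈ diagL := by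
        have : inB diagL Cd = true := by decide +kernel
        rw [inB, List.any_eq_true] at this
        obtain ⟨z, hz, e⟩ := this
        rw [Nat.beq_eq] at e
        rwa [e]
      obtain ⟨g, -, e⟩ := diagL_in_top Cd hd
      exact ⟨g, hAle (A_mem_iff.2 (e ▸ hd)), e⟩
    exacts [hc1, hc2, he5]
  -- centre is scalar
  have hscal : ∀ x : K, x ∈ Subgroup.center ↥K → IsScalar (x : U6) := by
    intro x hx
    rw [isScalar_iff]
    have h := List.all_eq_true.1 diag_cd_scalar_check _ (A_mem_iff.1 (hZA x hx))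
    rw [Bool.or_eq_true, inB, List.any_eq_true, Bool.not_eq_true'] at h
    rcases h with h | ⟨z, hz', e⟩
    · exfalso
      rw [← Bool.not_eq_true, List.all_eq_true] at h
      refine h fun c hc => ?_
      have hin : In K c := hb c (by simp only [List.mem_cons, List.not_mem_nil, or_false] at hc ⊢; tauto)
      obtain ⟨g, hg, rfl⟩ := hin
      have e := congrArg (fun k : K => cd (k : U6)) (Subgroup.mem_center_iff.1 hx ⟨g, hg⟩)
      simp only [Subgroup.coe_mul, cd_mul] at e
      rw [Nat.beq_eq]; exact e.symm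
    · rw [Nat.beq_eq] at e; rwa [e]
  have hCr := Cr_facts
  simp only [Bool.and_eq_true, Nat.beq_eq, inB, List.any_eq_true] at hCr
  obtain ⟨⟨⟨zc, hzc, ezc⟩, hr1⟩, hr2⟩ := hCr
  subst ezc
  obtain ⟨r, -, hr⟩ := diagL_in_top _ hzc
  have hrA : r ∈ A := A_mem_iff.2 (hr ▸ hzc)
  have hrC : ∀ g ∈ P0, r * g = g * r := by
    have : P0 ≤ Subgroup.centralizer {r} := by
      refine sup_le (fun a ha => Subgroup.mem_centralizer_singleton_iff.2 (A_comm a ha r hrA)) ?_
      refine span_le fun c hc => ?_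
      obtain ⟨g, -, rfl⟩ := C_gens c hc
      refine ⟨g, Subgroup.mem_centralizer_singleton_iff.2 (cd_injective ?_), rfl⟩
      rw [cd_mul, cd_mul, hr]
      rcases List.mem_cons.1 hc with e | e
      · rw [e, hr1]
      · rw [List.mem_singleton] at e; rw [e, hr2]
    exact fun g hg => (Subgroup.mem_centralizer_singleton_iff.1 (this hg)).symm
  let rK : K := ⟨r, hAle hrA⟩
  have hrne : φ rK ≠ 1 := by
    intro e
    obtain ⟨g, hg, eg⟩ := he5
    have := congrArg (fun k : K => cd (k : U6)) (Subgroup.mem_center_iff.1 ((hφker _).1 e) ⟨g, hg⟩)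
    simp only [Subgroup.coe_mul, cd_mul] at this
    exact of_decide_eq_true noncomm_r (by rw [← hr, ← eg]; exact this.symm)
  obtain ⟨w, hw, hwz, hw4, hw2⟩ := exists_w (z := φ rK)
    (hPKmap ▸ ⟨rK, Subgroup.mem_sup_left hrA, rfl⟩) hrne (fun x hx => by
      rw [← hPKmap] at hx
      obtain ⟨k, hk, rfl⟩ := hx
      rw [← map_mul, ← map_mul]
      exact congrArg φ (Subtype.ext (hrC _ hk).symm))
  obtain ⟨v, hv⟩ := hφsurj w hw
  have hcomm : r * (v : U6) = (v : U6) * r := by
    have hmem : rK * v * rK⁻¹ * v⁻¹ ∈ Subgroup.center ↥K := (hφker _).1 (by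
      rw [map_mul, map_mul, map_mul, map_inv, map_inv, hv, ← hwz, mul_inv_cancel_right, mul_inv_cancel])
    have hs := hscal _ hmem
    set s : U6 := ((rK * v * rK⁻¹ * v⁻¹ : K) : U6) with hsdef
    have e1 : r * (v : U6) = s * ((v : U6) * r) := by
      rw [hsdef]
      show r * (v : U6) = r * (v : U6) * r⁻¹ * (v : U6)⁻¹ * ((v : U6) * r)
      group
    have e2 : (v : U6)⁻¹ * r * (v : U6) = s * r := by
      rw [mul_assoc, e1, hs.commute ((v : U6) * r), ← mul_assoc, ← mul_assoc, inv_mul_cancel,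
        one_mul, ← hs.commute r]
    have ht : (mat (s * r)).trace = (mat r).trace := by
      rw [← e2, map_mul, map_mul, Matrix.trace_mul_cycle, ← map_mul, mul_inv_cancel, map_one, one_mul]
    have h := List.all_eq_true.1 trace_check _ (isScalar_iff.1 hs)
    simp only [Bool.or_eq_true, Nat.beq_eq, Bool.not_eq_true'] at h
    rcases h with h | h
    · rw [e1, cd_injective (h.trans cd_one.symm), one_mul]
    · exfalso
      rw [← Bool.not_eq_true, Nat.beq_eq] at h
      refine h (kOf_inj _ ?_ _ ?_ ?_)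
      · exact foldl_xor_lt _ _
      · exact foldl_xor_lt _ _
      rw [← trace_code, ← trace_code, ← hr, ← cd_mul, ← mat_eq, ← mat_eq, ht]
  have hv4 : v ^ 4 ∈ Subgroup.center ↥K := (hφker _).1 (by rw [map_pow, hv, hw4])
  obtain ⟨i, hi⟩ := exists_KS_le hb (by rw [hcard]; norm_num) hr (y := ((v ^ 3 : K) : U6)) (v ^ 3).2
    (by
      rw [SubmonoidClass.coe_pow]
      exact ((show Commute r (v : U6) from hcomm).pow_right 3).eq)
    (by rw [← SubmonoidClass.coe_pow, ← pow_mul, show 3 * 4 = 4 * 3 from rfl, pow_mul, hc3 _ hv4]; rfl)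
    (by
      intro e
      have e' : (v ^ 3) ^ 2 = (1 : K) := Subtype.ext (by rw [SubmonoidClass.coe_pow]; exact e)
      apply hw2
      have := congrArg φ e'
      rw [map_pow, map_pow, map_one, hv, ← pow_mul, show 3 * 2 = 4 + 2 from rfl, pow_add, hw4,
        one_mul] at this
      exact this)
  exact ⟨i, Subgroup.eq_of_le_of_card_ge hi (by rw [hcard, (KS_spec hF9 i).2])⟩

end CfsgLib.Spor.U62
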