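import Cfsg.Agent.Lib.Spor.U62.ActCheck

/-!
Only scalars act trivially on the frames.
-/

set_option autoImplicit false
set_option maxRecDepth 100000

namespace CfsgLib.Spor.U62

/-- images as a list -/
def permL (π : Equiv.Perm (Fin 6)) : List ℕ := (List.range 6).map fun j => ((π (Fin.ofNat 6 j) : Fin 6) : ℕ)

/-- the diagonal part forced by the image `w` of the probe vector `v` -/
def dsolve (p : List ℕ) (v w : ℕ) : List ℕ :=
  let d := fun j => mulN (entV w (p.getD j 0)) (sqN (entV v j))
  [sqN (mulN (mulN (mulN (mulN (d 1) (d 2)) (d 3)) (d 4)) (d 5)), d 1, d 2, d 3, d 4, d 5]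

/-- the inverse of a listed permutation -/
def invL (p : List ℕ) : List ℕ := (List.range 6).map fun i => p.findIdx (Nat.beq i)

/-- one case of the kernel check (frames are tested from the last one down, which prunes early) -/
def kerCase (i : ℕ) (p : List ℕ) (w : ℕ) : Bool :=
  let F := framesN i
  let ts := (kerData i).2
  let D := dsolve p ((F.getD (ts.getD 0 0) []).getD 0 0) w
  !((D.all fun x => !Nat.beq x 0) && ts.reverse.all fun k =>
      (F.getD k []).all fun x => inB (expand (F.getD k [])) (monoImg (invL p) D x)) ||
    (decide (p = List.range 6) && D.all fun x => Nat.beq x (D.getD 1 0))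

/-- the kernel check for one permutation -/
def kerB (i : ℕ) (p : List ℕ) : Bool :=
  (expand ((framesN i).getD ((kerData i).2.getD 0 0) [])).all fun w =>
    !Nat.beq (entV w (p.getD 0 0)) 0 || kerCase i p w

theorem ker_ok0 : ((List.range 6).permutations'.all (kerB 0)) = true := by decide +kernel

theorem ker_ok1 : ((List.range 6).permutations'.all (kerB 1)) = true := by decide +kernel

theorem ker_ok2 : ((List.range 6).permutations'.all (kerB 2)) = true := by decide +kernel

theorem permL_mem (π : Equiv.Perm (Fin 6)) : permL π ∈ (List.range 6).permutations' := by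
  rw [List.mem_permutations']
  have h1 : permL π = ((List.finRange 6).map π).map Fin.val := by
    simp [permL, ← List.map_coe_finRange_eq_range]
  have h2 : List.range 6 = (List.finRange 6).map Fin.val := List.map_coe_finRange_eq_range.symm
  rw [h1, h2]
  exact (Equiv.Perm.map_finRange_perm π).map _

theorem invL_permL (π : Equiv.Perm (Fin 6)) : invL (permL π) = permL π.symm := by
  refine List.map_congr_left fun i hi => ?_
  have hi' : i < 6 := List.mem_range.1 hi
  have hlen : (permL π).length = 6 := by simp [permL]
  rw [List.findIdx_eq (by rw [hlen]; exact (π.symm (Fin.ofNat 6 i)).2)]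
  constructor
  · simp [permL, Nat.mod_eq_of_lt hi']
  · intro j hj
    rw [Bool.eq_false_iff]
    intro h
    simp [permL] at h
    have : π.symm (Fin.ofNat 6 i) = Fin.ofNat 6 j := by
      rw [Equiv.symm_apply_eq, Fin.ext_iff]
      simpa [Nat.mod_eq_of_lt hi'] using h
    rw [Fin.ext_iff] at this
    have hj6 : j < 6 := lt_trans hj (π.symm (Fin.ofNat 6 i)).2
    simp [Nat.mod_eq_of_lt hj6] at this
    rw [← Fin.ofNat_eq_cast] at this
    omega

theorem ker_ok (π : Equiv.Perm (Fin 6)) (i : ℕ) (hi : i < 3) : kerB i (permL π) = true := by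
  interval_cases i
  exacts [List.all_eq_true.1 ker_ok0 _ (permL_mem π), List.all_eq_true.1 ker_ok1 _ (permL_mem π),
    List.all_eq_true.1 ker_ok2 _ (permL_mem π)]

theorem probe_ok : ((List.range 3).all fun i =>
    let v := ((framesN i).getD ((kerData i).2.getD 0 0) []).getD 0 0
    Nat.beq (entV v 0) 0 && (List.range 5).all fun j => !Nat.beq (entV v (j + 1)) 0) = true := by
  decide +kernel

end CfsgLib.Spor.U62
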