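import Cfsg.Agent.Lib.Spor.U62.Block
import Cfsg.Agent.Lib.Spor.U62.KerCheck
import Cfsg.Agent.Lib.Spor.McLUnitary.Unitary

/-!
The action of the three subgroups on 112 frames.
-/

set_option autoImplicit false
set_option maxRecDepth 100000

namespace CfsgLib.Spor.U62

open Matrix
open CfsgLib.Spor.HSUnitary (equivarSub equivarHom equivarHom_spec equivarHom_eq)
open CfsgLib.Spor.McLUnitary (pA pB pA_val pB_val permA permB model)
open scoped Pointwise

/-- vectors -/
def Vec : Type := Fin 6 → K4

instance : Finite Vec := inferInstanceAs (Finite (Fin 6 → K4))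

instance : MulAction U6 Vec where
  smul g v := Matrix.mulVec (mat g) v
  one_smul v := (congrArg (fun M : Matrix (Fin 6) (Fin 6) K4 => Matrix.mulVec M v) (map_one mat)).trans
    (Matrix.one_mulVec (m := Fin 6) v)
  mul_smul g h v :=
    (congrArg (fun M : Matrix (Fin 6) (Fin 6) K4 => Matrix.mulVec M v) (map_mul mat g h)).trans
      (Matrix.mulVec_mulVec (v : Fin 6 → K4) (mat g) (mat h)).symm

/-- the vector with a given code -/
def vecOf (x : ℕ) : Vec := fun i => kOf (entV x i)

theorem entV_lt (x i : ℕ) : entV x i < 4 := land_three_lt _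

theorem entV_vbuild {f : ℕ → ℕ} (hf : ∀ i, f i < 4) {i : ℕ} (hi : i < 6) :
    entV (vbuild f) i = f i := by
  rw [entV, vbuild, ent_pack _ (by simp [hf])]
  rw [List.getD_eq_getElem _ _ (by simpa using hi), List.getElem_map, List.getElem_range]

theorem smul_vecOf (g : U6) (x : ℕ) : g • vecOf x = vecOf (actV (cd g) x) := by
  refine funext fun i => ?_
  show (mat g *ᵥ fun j : Fin 6 => kOf (entV x j)) i = kOf (entV (actV (cd g) x) i)
  rw [actV, entV_vbuild (fun _ => dot6_lt _ _) i.2,
    kOf_dot6 (fun k => ent_lt _ _ _) (fun k => entV_lt _ _), mat_eq g, Matrix.mulVec]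
  rfl

theorem vecOf_inj {x y : ℕ} (hx : x < 4096) (hy : y < 4096) (h : vecOf x = vecOf y) : x = y := by
  have hfix : ((List.range 4096).all fun z => Nat.beq (vbuild fun i => entV z i) z) = true := by
    decide +kernel
  have e : ∀ z < 4096, vbuild (fun i => entV z i) = z := fun z hz =>
    Nat.eq_of_beq_eq_true (List.all_eq_true.1 hfix z (List.mem_range.2 hz))
  rw [← e x hx, ← e y hy]
  unfold vbuild
  congr 1
  refine List.map_congr_left fun i hi => ?_
  exact kOf_inj _ (entV_lt _ _) _ (entV_lt _ _) (congrFun h ⟨i, List.mem_range.1 hi⟩)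

/-- a frame as a set of vectors -/
def obj (i : Fin 3) (k : Fin 112) : Set Vec :=
  {v | ∃ y ∈ expand ((framesN i).getD k []), vecOf y = v}

theorem sep_spec (i : Fin 3) (k : Fin 112) :
    (expand ((framesN i).getD k [])).Nodup ∧ (expand ((framesN i).getD k [])).length = 18 ∧
      (∀ x ∈ expand ((framesN i).getD k []), x < 4096) ∧
      ∀ j : Fin 112, (k : ℕ) = j ∨
        inB (expand ((framesN i).getD j [])) (((framesN i).getD k []).getD 0 0) = false := by
  have h := List.all_eq_true.1 sep_ok i (List.mem_range.2 i.2)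
  rw [sepB] at h
  have h' := List.all_eq_true.1 h k (List.mem_range.2 k.2)
  simp only [Bool.and_eq_true, decide_eq_true_eq, Nat.beq_eq, List.all_eq_true, Nat.blt_eq] at h'
  refine ⟨h'.1.1.1, h'.1.1.2, h'.1.2, fun j => ?_⟩
  have := h'.2 j (List.mem_range.2 j.2)
  simpa only [Bool.or_eq_true, Nat.beq_eq, Bool.not_eq_true'] using this

theorem ncard_obj (i : Fin 3) (k : Fin 112) : (obj i k).ncard = 18 := by
  classical
  obtain ⟨hnd, hlen, hlt, -⟩ := sep_spec i k
  have e : obj i k = vecOf '' ((expand ((framesN i).getD k [])).toFinset : Set ℕ) := by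
    ext v; simp [obj]
  rw [e, Set.InjOn.ncard_image, Set.ncard_coe_finset, List.toFinset_card_of_nodup hnd, hlen]
  intro x hx y hy
  exact vecOf_inj (hlt x (List.mem_toFinset.1 hx)) (hlt y (List.mem_toFinset.1 hy))

theorem obj_injective (i : Fin 3) : Function.Injective (obj i) := by
  intro k j h
  obtain ⟨-, hlen, hlt, hsep⟩ := sep_spec i k
  refine Fin.ext ((hsep j).resolve_right fun hn => ?_)
  have hne : (framesN i).getD k [] ≠ [] := by
    intro e; rw [e] at hlen; simp [expand] at hlen
  have hx : ((framesN i).getD k []).getD 0 0 ∈ expand ((framesN i).getD k []) := by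
    obtain ⟨x, l, e⟩ := List.exists_cons_of_ne_nil hne
    rw [e]; simp [expand]
  obtain ⟨y, hy, e⟩ := h ▸ (show vecOf (((framesN i).getD k []).getD 0 0) ∈ obj i k from ⟨_, hx, rfl⟩)
  obtain ⟨-, -, hlt', -⟩ := sep_spec i j
  rw [← Bool.not_eq_true] at hn
  refine hn ?_
  rw [inB, List.any_eq_true]
  exact ⟨y, hy, Nat.beq_eq ▸ (vecOf_inj (hlt' y hy) (hlt _ hx) e).symm⟩

theorem smul_obj {i : Fin 3} {g : U6} {c : ℕ} (hg : cd g = c) {p : List ℕ} {σ : Equiv.Perm (Fin 112)}
    (hσ : ∀ k, ((σ k : Fin 112) : ℕ) = p.getD k 0) (h : actB c (framesN i) p = true) (k : Fin 112) :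
    g • obj i k = obj i (σ k) := by
  refine Set.eq_of_subset_of_ncard_le ?_ ?_ (Set.toFinite _)
  · rintro v ⟨w, ⟨y, hy, rfl⟩, rfl⟩
    have h' := List.all_eq_true.1 h k (List.mem_range.2 k.2)
    have h'' := List.all_eq_true.1 h' y hy
    rw [inB, List.any_eq_true] at h''
    obtain ⟨z, hz, e⟩ := h''
    rw [Nat.beq_eq] at e
    refine ⟨z, ?_, ?_⟩
    · rw [hσ]; exact List.mem_eraseDups.1 hz
    · show vecOf z = g • vecOf y
      rw [smul_vecOf, hg, e]
  · rw [ncard_obj]
    show 18 ≤ ((fun v : Vec => g • v) '' obj i k).ncard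
    rw [Set.ncard_image_of_injective _ (MulAction.injective g), ncard_obj]

theorem gens_act (i : Fin 3) : ∀ g : U6, cd g ∈ gens i →
    ∃ m : model, ∀ k, g • obj i k = obj i ((m : Equiv.Perm (Fin 112)) k) := by
  intro g hg
  have h := List.all_eq_true.1 act_ok i (List.mem_range.2 i.2)
  rw [Bool.and_eq_true] at h
  rcases List.mem_cons.1 hg with hg | hg
  · exact ⟨⟨pA, Subgroup.subset_closure (by simp)⟩, smul_obj hg pA_val h.1⟩
  · rw [List.mem_singleton] at hg
    exact ⟨⟨pB, Subgroup.subset_closure (by simp)⟩, smul_obj hg pB_val h.2⟩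

theorem KS_le_equivar (i : Fin 3) : KS i ≤ equivarSub (obj i) model.subtype := by
  rw [KS, CfsgLib.Spor.U62.span, Subgroup.closure_le]
  exact fun g hg => gens_act i g hg

/-- the action on the frames -/
noncomputable def frameHom (i : Fin 3) : KS i →* model :=
  equivarHom (obj_injective i) model.subtype_injective (KS i) (KS_le_equivar i)

theorem frameHom_surjective (i : Fin 3) : Function.Surjective (frameHom i) := by
  rw [← MonoidHom.range_eq_top, eq_top_iff]
  intro m _
  have h := List.all_eq_true.1 act_ok i (List.mem_range.2 i.2)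
  rw [Bool.and_eq_true] at h
  have hcl : model ≤ (frameHom i).range.map model.subtype := by
    show Subgroup.closure ({pA, pB} : Set (Equiv.Perm (Fin 112))) ≤ _
    rw [Subgroup.closure_le]
    rintro x (rfl | rfl)
    · obtain ⟨g, hg, e⟩ := gens_mem i (genA.getD i oneC) List.mem_cons_self
      refine ⟨⟨pA, Subgroup.subset_closure (by simp)⟩, ⟨⟨g, hg⟩, equivarHom_eq _ _ _ _ ?_⟩, rfl⟩
      exact smul_obj e pA_val h.1
    · obtain ⟨g, hg, e⟩ := gens_mem i (genB.getD i oneC) (List.mem_cons_of_mem _ List.mem_cons_self)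
      refine ⟨⟨pB, Subgroup.subset_closure (by simp)⟩, ⟨⟨g, hg⟩, equivarHom_eq _ _ _ _ ?_⟩, rfl⟩
      exact smul_obj e pB_val h.2
  obtain ⟨n, hn, e⟩ := hcl m.2
  exact Subtype.ext e ▸ hn

/-- being a scalar matrix -/
def IsScalar (g : U6) : Prop := ∃ c : K4, mat g = c • 1

theorem IsScalar.commute {g : U6} (h : IsScalar g) (x : U6) : g * x = x * g := by
  obtain ⟨c, hc⟩ := h
  refine mat_injective ?_
  rw [map_mul, map_mul, hc, Matrix.smul_mul, one_mul, Matrix.mul_smul, mul_one]

theorem isScalar_of_fix (i : Fin 3) {g : U6} (hg : ∀ k, g • obj i k = obj i k) : IsScalar g := by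
  classical
  have hk0 : (kerData i).1 < 112 := by fin_cases i <;> decide +kernel
  have huf := List.all_eq_true.1 unit_frame_ok i (List.mem_range.2 i.2)
  simp only [Bool.and_eq_true, List.all_eq_true, List.any_eq_true, List.mem_range, inB,
    Bool.or_eq_true, Nat.beq_eq] at huf
  obtain ⟨hunit, hshape⟩ := huf
  have hzero : kOf 0 = 0 := by decide +kernel
  have hcol : ∀ j : Fin 6, ∃ l : Fin 6, ∀ k, k ≠ l → mat g k j = 0 := by
    intro j
    obtain ⟨e, he, ee⟩ := hunit j j.2
    have hv : vecOf e = (Pi.single j 1 : Fin 6 → K4) := by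
      rw [← ee]
      refine funext fun k => ?_
      have hall : ∀ j k : Fin 6, entV (4 ^ (j : ℕ)) k = if k = j then 1 else 0 := by decide +kernel
      show kOf (entV (4 ^ (j : ℕ)) k) = _
      rw [hall, Pi.single_apply]
      split <;> decide +kernel
    have hmem : g • vecOf e ∈ obj i ⟨_, hk0⟩ := by
      rw [← hg ⟨_, hk0⟩]
      exact Set.smul_mem_smul_set ⟨e, he, rfl⟩
    obtain ⟨y, hy, ey⟩ := hmem
    obtain ⟨l, hl, hl'⟩ := hshape y hy
    refine ⟨⟨l, hl⟩, fun k hk => ?_⟩
    have hz : entV y k = 0 := (hl' k k.2).resolve_left fun e => hk (Fin.ext e.symm)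
    have he' : mat g k j = (g • vecOf e : Vec) k := by
      show _ = (mat g *ᵥ vecOf e) k
      rw [hv, Matrix.mulVec_single_one]; rfl
    rw [he', ← ey]
    show kOf (entV y k) = 0
    rw [hz, hzero]
  choose σ hσ using hcol
  have hdet : (mat g).det = 1 := g.1.2
  have hσs : Function.Surjective σ := by
    intro k
    by_contra h
    push Not at h
    rw [Matrix.det_eq_zero_of_row_eq_zero k fun j => hσ j k (Ne.symm (h j))] at hdet
    exact zero_ne_one hdet
  let π : Equiv.Perm (Fin 6) := Equiv.ofBijective σ ⟨Finite.injective_iff_surjective.2 hσs, hσs⟩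
  let d : Fin 6 → K4 := fun j => mat g (π j) j
  have hmat : ∀ k j, mat g k j = if π j = k then d j else 0 := by
    intro k j
    by_cases h : π j = k
    · rw [if_pos h, ← h]
    · rw [if_neg h]; exact hσ j k (Ne.symm h)
  have hprod : ∏ j, d j = 1 := by
    have hdiag : ∀ k j, mat (g * pel π.symm) k j = if j = k then d (π.symm j) else 0 := by
      intro k j
      rw [map_mul, Matrix.mul_apply, Finset.sum_eq_single (π.symm j) (fun l _ hl => by
        rw [mat_pel, if_neg (Ne.symm hl), mul_zero]) (fun h => absurd (Finset.mem_univ _) h),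
        mat_pel, if_pos rfl, mul_one, hmat, Equiv.apply_symm_apply]
    have hd : (mat (g * pel π.symm)).det = 1 := (g * pel π.symm).1.2
    have he : mat (g * pel π.symm) = Matrix.diagonal fun j => d (π.symm j) := by
      refine Matrix.ext fun k j => ?_
      rw [hdiag, Matrix.diagonal_apply]
      by_cases h : j = k
      · rw [if_pos h, if_pos h.symm, h]
      · rw [if_neg h, if_neg (Ne.symm h)]
    rwa [he, Matrix.det_diagonal, Equiv.prod_comp π.symm d] at hd
  let D : List ℕ := (List.range 6).map fun j => kCode (d (Fin.ofNat 6 j))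
  have hDget : ∀ j : Fin 6, D.getD j 0 = kCode (d j) := by
    intro j
    rw [List.getD_eq_getElem _ _ (by simp [D])]
    simp [D]
  have hpget : ∀ (ρ : Equiv.Perm (Fin 6)) (j : Fin 6), (permL ρ).getD j 0 = (ρ j : ℕ) := by
    intro ρ j
    rw [List.getD_eq_getElem _ _ (by simp [permL])]
    simp [permL]
  have himg : ∀ x, g • vecOf x = vecOf (monoImg (permL π.symm) D x) := by
    intro x
    refine funext fun k => ?_
    show (mat g *ᵥ fun j : Fin 6 => kOf (entV x j)) k = kOf (entV (monoImg (permL π.symm) D x) k)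
    rw [monoImg, entV_vbuild (fun _ => mulN_lt _ _) k.2, hpget, hDget,
      kOf_mul _ (kCode_lt _) _ (entV_lt _ _), kOf_code]
    show ∑ j, mat g k j * kOf (entV x j) = _
    rw [Finset.sum_eq_single (π.symm k) (fun l _ hl => by
      rw [hmat, if_neg (fun e => hl (by rw [← e, Equiv.symm_apply_apply])), zero_mul])
      (fun h => absurd (Finset.mem_univ _) h), hmat, if_pos (Equiv.apply_symm_apply π k)]
  set F := framesN i with hF
  set ts := (kerData i).2 with hts
  have hts_lt : ∀ k ∈ ts, k < 112 := by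
    rw [hts]; fin_cases i <;> decide +kernel
  have hts0 : ts.getD 0 0 ∈ ts := by
    rw [hts]; fin_cases i <;> decide +kernel
  set v := (F.getD (ts.getD 0 0) []).getD 0 0 with hvdef
  have hpr := List.all_eq_true.1 probe_ok i (List.mem_range.2 i.2)
  simp only [Bool.and_eq_true, List.all_eq_true, List.mem_range, Nat.beq_eq, Bool.not_eq_true'] at hpr
  have hvne : ∀ j : Fin 6, j ≠ 0 → entV v j ≠ 0 := by
    intro j hj
    have hj' : (j : ℕ) ≠ 0 := fun e => hj (Fin.ext e)
    have h := hpr.2 ((j : ℕ) - 1) (by omega)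
    rw [show (j : ℕ) - 1 + 1 = j by omega, ← Bool.not_eq_true, Nat.beq_eq] at h
    exact h
  have hmemv : ∀ k ∈ ts, ∀ x ∈ (F.getD k []), ∃ y ∈ expand (F.getD k []),
      vecOf y = g • vecOf x := by
    intro k hk x hx
    have hkl := hts_lt k hk
    have h := hg ⟨k, hkl⟩
    have : g • vecOf x ∈ obj i ⟨k, hkl⟩ := by
      rw [← h]
      exact Set.smul_mem_smul_set ⟨x, List.mem_flatMap.2 ⟨x, hx, List.mem_cons_self⟩, rfl⟩
    exact this
  have hv0 : v ∈ F.getD (ts.getD 0 0) [] := by
    have hne : F.getD (ts.getD 0 0) [] ≠ [] := by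
      intro e
      have := (sep_spec i ⟨_, hts_lt _ hts0⟩).2.1
      simp only [← hF] at this
      rw [e] at this; simp [expand] at this
    obtain ⟨x, l, e⟩ := List.exists_cons_of_ne_nil hne
    rw [hvdef, e]; simp
  obtain ⟨w, hw, ew⟩ := hmemv _ hts0 v hv0
  have hwent : ∀ j : Fin 6, kOf (entV w (π j)) = d j * kOf (entV v j) := by
    intro j
    have e := congrFun ew (π j)
    change kOf (entV w (π j)) = (g • vecOf v : Vec) (π j) at e
    rw [e]
    show (mat g *ᵥ fun l : Fin 6 => kOf (entV v l)) (π j) = _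
    show ∑ l, mat g (π j) l * kOf (entV v l) = _
    rw [Finset.sum_eq_single j (fun l _ hl => by
      rw [hmat, if_neg (fun e => hl (π.injective e)), zero_mul])
      (fun h => absurd (Finset.mem_univ _) h), hmat, if_pos rfl]
  have hdj : ∀ j : Fin 6, j ≠ 0 →
      mulN (entV w ((permL π).getD j 0)) (sqN (entV v j)) = kCode (d j) := by
    intro j hj
    rw [hpget]
    refine kOf_inj _ (mulN_lt _ _) _ (kCode_lt _) ?_
    rw [kOf_mul _ (entV_lt _ _) (sqN (entV v j)) (mulN_lt _ _), kOf_code, hwent,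
      kOf_sqN _ (entV_lt _ _)]
    have h3 : ∀ x < 4, x ≠ 0 → kOf x * (kOf x * kOf x) = 1 := by decide +kernel
    rw [mul_assoc, h3 _ (entV_lt _ _) (hvne j hj), mul_one]
  have hsolve : dsolve (permL π) v w = D := by
    have hD : D = [kCode (d 0), kCode (d 1), kCode (d 2), kCode (d 3), kCode (d 4), kCode (d 5)] := rfl
    rw [hD, dsolve]
    have e1 := hdj 1 (by decide)
    have e2 := hdj 2 (by decide)
    have e3 := hdj 3 (by decide)
    have e4 := hdj 4 (by decide)
    have e5 := hdj 5 (by decide)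
    simp only [Fin.val_one, Fin.val_two, show ((3 : Fin 6) : ℕ) = 3 from rfl,
      show ((4 : Fin 6) : ℕ) = 4 from rfl, show ((5 : Fin 6) : ℕ) = 5 from rfl] at e1 e2 e3 e4 e5
    simp only [e1, e2, e3, e4, e5, List.cons.injEq, and_true]
    refine kOf_inj _ (mulN_lt _ _) _ (kCode_lt _) ?_
    rw [kOf_mul _ (mulN_lt _ _) _ (mulN_lt _ _)]
    simp only [kOf_mul _ (mulN_lt _ _) _ (kCode_lt _), kOf_mul _ (kCode_lt _) _ (kCode_lt _), kOf_code]
    rw [Fin.prod_univ_six] at hprod
    have key : ∀ x < 4, ∀ y < 4, kOf x * kOf y = 1 → kOf y * kOf y = kOf x := by decide +kernel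
    have := key _ (kCode_lt (d 0)) _ (kCode_lt (d 1 * d 2 * d 3 * d 4 * d 5))
      (by rw [kOf_code, kOf_code, ← hprod]; ring)
    rwa [kOf_code, kOf_code] at this
  have hk := List.all_eq_true.1 (ker_ok π i i.2) w hw
  have hw0 : entV w ((permL π).getD 0 0) = 0 := by
    rw [show (permL π).getD 0 0 = (π 0 : ℕ) from hpget π 0]
    refine kOf_inj _ (entV_lt _ _) 0 (by norm_num) ?_
    rw [hwent 0, show entV v ((0 : Fin 6) : ℕ) = 0 from hpr.1, hzero, mul_zero]
  rw [hw0, show Nat.beq 0 0 = true from rfl, Bool.not_true, Bool.false_or, kerCase, invL_permL] at hk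
  simp only [← hF, ← hts, ← hvdef, hsolve] at hk
  rw [Bool.or_eq_true] at hk
  rcases hk with hk | hk
  · exfalso
    rw [Bool.not_eq_true', ← Bool.not_eq_true] at hk
    refine hk ?_
    simp only [Bool.and_eq_true, List.all_eq_true, Bool.not_eq_true']
    refine ⟨fun x hx => ?_, fun k hk' x hx => ?_⟩
    · obtain ⟨j, hj, rfl⟩ := List.mem_map.1 hx
      rw [← Bool.not_eq_true, Nat.beq_eq]
      intro e
      have h0 : d (Fin.ofNat 6 j) = 0 := by rw [← kOf_code (d _), e, hzero]
      have : (∏ l, d l) = 0 := Finset.prod_eq_zero (Finset.mem_univ _) h0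
      rw [hprod] at this
      exact one_ne_zero this
    · rw [List.mem_reverse] at hk'
      obtain ⟨y, hy, ey⟩ := hmemv k hk' x hx
      rw [inB, List.any_eq_true]
      refine ⟨y, hy, ?_⟩
      rw [Nat.beq_eq]
      rw [himg] at ey
      refine (vecOf_inj ((sep_spec i ⟨k, hts_lt k hk'⟩).2.2.1 y hy) ?_ ey).symm
      show vbuild _ < 4096
      have hb : ∀ a < 4, ∀ b < 4, ∀ c < 4, ∀ e < 4, ∀ f < 4, ∀ g < 4, pack [a, b, c, e, f, g] < 4096 := by
        intro a ha b hb c hc e he f hf g hg
        simp only [pack]; omega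
      exact hb _ (mulN_lt _ _) _ (mulN_lt _ _) _ (mulN_lt _ _) _ (mulN_lt _ _) _ (mulN_lt _ _) _ (mulN_lt _ _)
  · simp only [Bool.and_eq_true, decide_eq_true_eq, List.all_eq_true, Nat.beq_eq] at hk
    have hπ : π = 1 := Equiv.ext fun j => Fin.ext (by
      rw [← hpget π j, hk.1, List.getD_eq_getElem _ _ (by simp), List.getElem_range]; rfl)
    refine ⟨d 1, Matrix.ext fun k j => ?_⟩
    rw [hmat, hπ, Matrix.smul_apply, Matrix.one_apply, Equiv.Perm.one_apply]
    by_cases h : j = k
    · subst h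
      rw [if_pos rfl, if_pos rfl, smul_eq_mul, mul_one]
      have := hk.2 (D.getD j 0) (by rw [List.getD_eq_getElem _ _ (by simp [D])]; exact List.getElem_mem _)
      rw [hDget j, show D.getD 1 0 = kCode (d 1) from hDget 1] at this
      rw [← kOf_code (d j), this, kOf_code]
    · rw [if_neg h, if_neg (Ne.symm h), smul_zero]

theorem frameHom_ker (i : Fin 3) {g : KS i} (h : frameHom i g = 1) : IsScalar (g : U6) :=
  isScalar_of_fix i fun k => by
    have := equivarHom_spec (obj_injective i) model.subtype_injective (KS i) (KS_le_equivar i) g k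
    rw [show equivarHom (obj_injective i) model.subtype_injective (KS i) (KS_le_equivar i) g = 1 from h,
      map_one, Equiv.Perm.one_apply] at this
    exact this

end CfsgLib.Spor.U62
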