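import Cfsg.Agent.Lib.Spor.U62.Monomial
import Cfsg.Agent.Lib.Classical.UnitarySU
import Cfsg.Agent.Lib.Coprime.Basic

/-!
The Sylow 3-subgroup and the monomial elements.
-/

set_option autoImplicit false
set_option maxRecDepth 100000

namespace CfsgLib.Spor.U62

open scoped Pointwise

/-- the two 3-cycles -/
def C : Subgroup U6 := span [Cc1, Cc2]

theorem C_gens : ∀ c ∈ [Cc1, Cc2], In C c := by
  intro c hc
  refine In.span ?_ hc
  rcases List.mem_cons.1 hc with rfl | hc
  · exact Cc1_in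
  · rw [List.mem_singleton] at hc; exact hc ▸ Cc2_in

theorem cycL_closed : ((memB cycL oneC) &&
    cycL.all fun x => [Cc1, Cc2].all fun y => memB cycL (mulC x y)) = true := by decide +kernel

theorem cycL_shape : cycL = [oneC, Cc2, mulC Cc2 Cc2, Cc1, mulC Cc1 Cc2, mulC Cc1 (mulC Cc2 Cc2),
    mulC Cc1 Cc1, mulC (mulC Cc1 Cc1) Cc2, mulC (mulC Cc1 Cc1) (mulC Cc2 Cc2)] := by decide +kernel

theorem C_surj : ∀ c ∈ cycL, In C c := by
  have h1 := C_gens Cc1 (by simp)
  have h2 := C_gens Cc2 (by simp)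
  have h0 : In C oneC := ⟨1, C.one_mem, cd_one⟩
  intro c hc
  rw [cycL_shape] at hc
  simp only [List.mem_cons, List.not_mem_nil, or_false] at hc
  rcases hc with rfl | rfl | rfl | rfl | rfl | rfl | rfl | rfl | rfl
  exacts [h0, h2, h2.mul h2, h1, h1.mul h2, h1.mul (h2.mul h2), h1.mul h1, (h1.mul h1).mul h2,
    (h1.mul h1).mul (h2.mul h2)]

theorem C_mem {g : U6} (hg : g ∈ C) : cd g ∈ cycL := inList_of_gens cycL_closed hg

theorem card_C : Nat.card C = 9 := by
  rw [card_eq_length cd_injective (show cycL.Nodup by decide +kernel) (fun _ h => C_mem h)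
    fun x hx => by obtain ⟨g, hg, e⟩ := C_surj x hx; exact ⟨g, hg, e⟩]
  decide +kernel

theorem cycl_in_normalizer : C ≤ Subgroup.normalizer (A : Set U6) := by
  refine span_le fun c hc => ?_
  obtain ⟨g, hg, rfl⟩ := C_gens c hc
  refine ⟨g, ?_, rfl⟩
  have hdia : ∀ x ∈ A, g * x * g⁻¹ ∈ A := by
    intro x hx
    rw [A_mem_iff] at hx ⊢
    have h := List.all_eq_true.1 (List.all_eq_true.1 (show ([Cc1, Cc2].all fun c => diagL.all fun a =>
      diagL.any fun a' => Nat.beq (mulC c a) (mulC a' c)) = true by decide +kernel) _ hc) _ hx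
    simp only [List.any_eq_true, Nat.beq_eq] at h
    obtain ⟨a', ha', e⟩ := h
    obtain ⟨k, -, rfl⟩ := diagL_in_top a' ha'
    rw [← cd_mul, ← cd_mul] at e
    rwa [cd_injective e, mul_inv_cancel_right]
  have hmap : (A.map (MulAut.conj g).toMonoidHom) = A := by
    refine Subgroup.eq_of_le_of_card_ge ?_ ?_
    · rintro y ⟨x, hx, rfl⟩; exact hdia x hx
    · exact (Nat.card_congr (Subgroup.equivMapOfInjective A _ (MulEquiv.injective _)).toEquiv).le
  rw [Subgroup.mem_normalizer_iff]
  intro h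
  refine ⟨hdia h, fun hh => ?_⟩
  rw [← hmap] at hh
  obtain ⟨x, hx, e⟩ := hh
  have : x = h := (MulEquiv.injective (MulAut.conj g)) e
  exact this ▸ hx

theorem A_inf_C : A ⊓ C = ⊥ := by
  rw [eq_bot_iff]
  rintro g ⟨hA, hC⟩
  have h := List.all_eq_true.1 (show (cycL.all fun c => Nat.beq c oneC || !memB diagL c) = true by
    decide +kernel) _ (C_mem hC)
  simp only [Bool.or_eq_true, Nat.beq_eq, Bool.not_eq_true'] at h
  rw [Subgroup.mem_bot]
  rcases h with h | h
  · exact cd_injective (h.trans cd_one.symm)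
  · rw [← Bool.not_eq_true] at h
    exact absurd (memB_iff.2 (A_mem_iff.1 hA)) h

/-- a Sylow 3-subgroup -/
def P0 : Subgroup U6 := A ⊔ C

theorem card_P0 : Nat.card P0 = 3 ^ 7 := by
  rw [P0, sup_comm, CfsgLib.Coprime.card_sup_of_inf_eq_bot cycl_in_normalizer
    (by rw [inf_comm, A_inf_C]), card_A, card_C]
  norm_num

theorem P0_decomp {g : U6} (hg : g ∈ P0) : ∃ a ∈ A, ∃ c ∈ C, a * c = g := by
  have h : g ∈ ((A : Set U6) * (C : Set U6)) := by
    rw [← Subgroup.coe_mul_of_right_le_normalizer_left A C cycl_in_normalizer]; exact hg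
  obtain ⟨a, ha, c, hc, e⟩ := h
  exact ⟨a, ha, c, hc, e⟩

theorem card_U6 : Nat.card U6 * 3 = Nat.card (Cfsg.GU 6 K4 2) := by
  rw [mul_comm]
  exact CfsgLib.Classical.card_SU_mul (q := 2) (by rw [card_K4]; norm_num) (by norm_num)

theorem card_U6_val : Nat.card U6 = 3 ^ 7 * 12615680 := by
  have h := card_U6
  rw [CfsgLib.Classical.card_GU (q := 2) (by rw [card_K4]; norm_num)] at h
  simp only [Finset.prod_range_succ, Finset.prod_range_zero] at h
  norm_num [show Even 2 from ⟨1, rfl⟩, show ¬ Even 3 by decide, show Even 4 from ⟨2, rfl⟩,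
    show ¬ Even 5 by decide, show ¬ Even 1 by decide] at h
  omega

theorem A_unique {B : Subgroup U6} (hBP : B ≤ P0) (hB : ∀ x ∈ B, ∀ y ∈ B, x * y = y * x)
    (hcard : Nat.card B = Nat.card A) : B = A := by
  refine eq_of_abelian_index_nine card_C A_comm (fun c hc hne => ?_) ?_
    (fun b hb => P0_decomp (hBP hb)) hB hcard
  · have hc' : cd c ∈ cycL := C_mem hc
    have h := List.all_eq_true.1 (show (cycL.all fun c => Nat.beq c oneC ||
      Nat.blt ((diagL.filter fun x => Nat.beq (mulC x c) (mulC c x)).length * 3) 243) = true by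
      decide +kernel) _ hc'
    simp only [Bool.or_eq_true, Nat.beq_eq, Nat.blt_eq] at h
    have hle := ncard_le_filter cd_injective (L := diagL) (p := fun x => Nat.beq (mulC x (cd c)) (mulC (cd c) x))
      (S := {x : U6 | x ∈ A ∧ x * c = c * x}) fun g hg => ⟨A_mem_iff.1 hg.1, by
        rw [Nat.beq_eq, ← cd_mul, ← cd_mul, hg.2]⟩
    rw [card_A]
    have := h.resolve_left fun e => hne (cd_injective (e.trans cd_one.symm))
    omega
  · have hle := ncard_le_filter cd_injective (L := diagL)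
      (p := fun x => [Cc1, Cc2].all fun c => Nat.beq (mulC x c) (mulC c x))
      (S := {x : U6 | x ∈ A ∧ ∀ c ∈ C, x * c = c * x}) fun g hg => ⟨A_mem_iff.1 hg.1, by
        rw [List.all_eq_true]
        intro c hc
        obtain ⟨k, hk, rfl⟩ := C_gens c hc
        rw [Nat.beq_eq, ← cd_mul, ← cd_mul, hg.2 k hk]⟩
    have h : Nat.blt ((diagL.filter fun x => [Cc1, Cc2].all fun c =>
      Nat.beq (mulC x c) (mulC c x)).length * 9) 243 = true := by decide +kernel
    rw [Nat.blt_eq] at h
    rw [card_A]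
    omega

end CfsgLib.Spor.U62
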