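import Cfsg.Agent.Lib.Spor.U62.Code
import Cfsg.Agent.Lib.Spor.U62.Data
import Cfsg.Agent.Lib.Spor.McLUnitary.Data

/-!
Checks for the action on 112 orthonormal frames.
-/

set_option autoImplicit false
set_option maxRecDepth 100000

namespace CfsgLib.Spor.U62

open CfsgLib.Spor.McLUnitary (permA permB)

/-- entry of a coded vector -/
def entV (x i : ℕ) : ℕ := Nat.land (Nat.shiftRight x (2 * i)) 3

/-- a code from six entries -/
def vbuild (f : ℕ → ℕ) : ℕ := pack ((List.range 6).map f)

/-- the image of a coded vector -/
def actV (g x : ℕ) : ℕ := vbuild fun i => dot6 (fun j => ent g i j) fun j => entV x j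

/-- a scalar multiple of a coded vector -/
def scaV (c x : ℕ) : ℕ := vbuild fun i => mulN c (entV x i)

/-- all nonzero multiples -/
def expand (l : List ℕ) : List ℕ := l.flatMap fun x => [x, scaV 2 x, scaV 3 x]

/-- membership -/
def inB (l : List ℕ) (x : ℕ) : Bool := l.any (Nat.beq x)

/-- image sets are as prescribed -/
def actB (g : ℕ) (F : List (List ℕ)) (p : List ℕ) : Bool :=
  (List.range 112).all fun i =>
    let a := expand (F.getD i [])
    let b := (expand (F.getD (p.getD i 0) [])).eraseDups
    a.all fun x => inB b (actV g x)

/-- sets are different, and vectors are coded canonically -/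
def sepB (F : List (List ℕ)) : Bool :=
  (List.range 112).all fun i =>
    let a := expand (F.getD i [])
    decide a.Nodup && Nat.beq a.length 18 && (a.all fun x => Nat.blt x 4096) &&
      (List.range 112).all fun j =>
        Nat.beq i j || !inB (expand (F.getD j [])) ((F.getD i []).getD 0 0)

/-- the frame of unit vectors, the frames to test, and the probe vector -/
def kerData (i : ℕ) : ℕ × List ℕ :=
  [(90, [2, 3, 5, 6, 7, 8]), (110, [1, 2, 4, 5, 8, 9]), (55, [0, 2, 3, 5])].getD i (0, [])

/-- the image of a vector under a coded monomial map -/
def monoImg (q : List ℕ) (D : List ℕ) (x : ℕ) : ℕ :=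
  vbuild fun i => mulN (D.getD (q.getD i 0) 0) (entV x (q.getD i 0))

/-- the frames of the three subgroups -/
def framesN (i : ℕ) : List (List ℕ) := [frames0, frames1, frames2].getD i []

theorem act_ok : ((List.range 3).all fun i =>
    actB (genA.getD i oneC) (framesN i) permA && actB (genB.getD i oneC) (framesN i) permB) = true := by
  decide +kernel

theorem sep_ok : ((List.range 3).all fun i => sepB (framesN i)) = true := by decide +kernel

theorem unit_frame_ok : ((List.range 3).all fun i =>
    let a := expand ((framesN i).getD (kerData i).1 [])
    (List.range 6).all (fun j => inB a (4 ^ j)) &&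
      a.all fun x => (List.range 6).any fun j => (List.range 6).all fun k =>
        Nat.beq j k || Nat.beq (entV x k) 0) = true := by decide +kernel

end CfsgLib.Spor.U62
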