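import Cfsg.Agent.Lib.Spor.U62.DataBase
import Cfsg.Agent.Lib.Spor.U62.Code

/-!
Unitary blocks of order dividing four.
-/

set_option autoImplicit false
set_option maxRecDepth 100000

namespace CfsgLib.Spor.U62

/-- entry of a coded vector of length three -/
def ent3 (a k : ℕ) : ℕ := Nat.land (Nat.shiftRight a (2 * k)) 3

/-- product in the hermitian form -/
def herm3 (a b : ℕ) : ℕ :=
  Nat.xor (Nat.xor (mulN (ent3 a 0) (sqN (ent3 b 0))) (mulN (ent3 a 1) (sqN (ent3 b 1))))
    (mulN (ent3 a 2) (sqN (ent3 b 2)))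

/-- matrix with one given block starting at `o` -/
def mkB (o a b c : ℕ) : ℕ := build fun i j =>
  if Nat.ble o i && Nat.blt i (o + 3) && (Nat.ble o j && Nat.blt j (o + 3))
  then ent3 ([a, b, c].getD (j - o) 0) (i - o) else if Nat.beq i j then 1 else 0

/-- orthonormal triples -/
def onB (a b c : ℕ) : Bool :=
  Nat.beq (herm3 a a) 1 && Nat.beq (herm3 b b) 1 && Nat.beq (herm3 c c) 1 &&
    Nat.beq (herm3 a b) 0 && Nat.beq (herm3 a c) 0 && Nat.beq (herm3 b c) 0

/-- fourth power equal to one -/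
def four1 (x : ℕ) : Bool := Nat.beq (mulC (mulC x x) (mulC x x)) oneC

/-- the table for a block -/
def tabB (o : ℕ) (t : List (ℕ × ℕ × ℕ)) (a b c : ℕ) : Bool :=
  let x := mkB o a b c
  !four1 x || t.any fun e => Nat.beq e.1 x

/-- nested enumeration of orthonormal triples -/
def enumB (o : ℕ) (t : List (ℕ × ℕ × ℕ)) : Bool :=
  (List.range 64).all fun a => !Nat.beq (herm3 a a) 1 ||
    (List.range 64).all fun b => !(Nat.beq (herm3 b b) 1 && Nat.beq (herm3 a b) 0) ||
      (List.range 64).all fun c =>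
        !(Nat.beq (herm3 c c) 1 && Nat.beq (herm3 a c) 0 && Nat.beq (herm3 b c) 0) || tabB o t a b c

theorem enum_one : enumB 0 s2L1 = true := by decide +kernel

theorem enum_two : enumB 3 s2L2 = true := by decide +kernel

theorem enumB_spec {o : ℕ} {t : List (ℕ × ℕ × ℕ)} (h : enumB o t = true) {a b c : ℕ}
    (ha : a < 64) (hb : b < 64) (hc : c < 64) (hon : onB a b c = true)
    (h4 : four1 (mkB o a b c) = true) : ∃ e ∈ t, e.1 = mkB o a b c := by
  simp only [onB, Bool.and_eq_true] at hon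
  obtain ⟨⟨⟨⟨⟨h1, h2⟩, h3⟩, h5⟩, h6⟩, h7⟩ := hon
  simp only [enumB, tabB, List.all_eq_true, List.mem_range, Bool.or_eq_true, Bool.not_eq_true',
    Bool.and_eq_false_imp, List.any_eq_true, Nat.beq_eq] at h
  have n : ∀ {x : Bool}, x = true → ¬ x = false := fun hx hy => Bool.false_ne_true (hy.symm.trans hx)
  have hA := (h a ha).resolve_left (n h1)
  have hB := (hA b hb).resolve_left (fun hh => n h5 (hh (by simpa [Nat.beq_eq] using h2)))
  have hC := (hB c hc).resolve_left (fun hh => n h7 (hh (by simp [Nat.beq_eq] at h3 h6 ⊢; exact ⟨h3, h6⟩)))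
  exact hC.resolve_left (n h4)

theorem tab_one : (s2L1.all fun e => Nat.beq e.1 (mulC (n1L.getD e.2.1 oneC) (q1L.getD e.2.2 oneC)) &&
    Nat.blt e.2.2 8 && (!Nat.blt e.2.2 2 || Nat.beq (mulC e.1 e.1) oneC)) = true := by decide +kernel

theorem tab_two : (s2L2.all fun e => Nat.beq e.1 (mulC (n2L.getD e.2.1 oneC) (q2L.getD e.2.2 oneC)) &&
    Nat.blt e.2.2 8 && (!Nat.blt e.2.2 2 || Nat.beq (mulC e.1 e.1) oneC)) = true := by decide +kernel

end CfsgLib.Spor.U62
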