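import Cfsg.Agent.Lib.Spor.U62.PermMat

/-!
The three subgroups and their programs.
-/

set_option autoImplicit false
set_option maxRecDepth 100000

namespace CfsgLib.Spor.U62

/-- the pair of block elements with given numbers -/
def qpair (a b : ℕ) : ℕ := mulC (q1L.getD a oneC) (q2L.getD b oneC)

/-- codes of the generators of the three subgroups -/
def gens (i : ℕ) : List ℕ := [genA.getD i oneC, genB.getD i oneC]

/-- the three subgroups -/
def KS (i : Fin 3) : Subgroup U6 := span (gens i)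

theorem qProg_ok : slpB qProg baseAll = true := by decide +kernel

theorem q_in_prog : ((q1L ++ q2L).all fun c => memB (oneC :: (qProg.map Prod.fst ++ baseAll)) c) = true := by
  decide +kernel

theorem qpair_in_top (a b : ℕ) : In ⊤ (qpair a b) := by
  have h : ∀ c ∈ q1L ++ q2L, In ⊤ c := fun c hc =>
    progBase qProg_ok In.base c (List.all_eq_true.1 q_in_prog c hc)
  have get : ∀ (l : List ℕ), (∀ c ∈ l, In ⊤ c) → ∀ k, In ⊤ (l.getD k oneC) := by
    intro l hl k
    by_cases hk : k < l.length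
    · rw [List.getD_eq_getElem _ _ hk]; exact hl _ (List.getElem_mem hk)
    · rw [List.getD_eq_default _ _ (not_lt.1 hk)]; exact ⟨1, Subgroup.mem_top _, cd_one⟩
  exact (get _ (fun c hc => h c (List.mem_append_left _ hc)) a).mul
    (get _ (fun c hc => h c (List.mem_append_right _ hc)) b)

theorem good_ok : (goodCase.all fun e => Nat.blt e.2.2.1 3 &&
    progB e.2.2.2 [Cd, Cc1, Cc2, Ce5, qpair e.1 e.2.1] (gens e.2.2.1)) = true := by decide +kernel

theorem good_spec {e : ℕ × ℕ × ℕ × List (ℕ × ℕ × ℕ)} (he : e ∈ goodCase) {H : Subgroup U6}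
    (hb : ∀ c ∈ [Cd, Cc1, Cc2, Ce5], In H c) (hq : In H (qpair e.1 e.2.1)) :
    ∃ i : Fin 3, KS i ≤ H := by
  have h := List.all_eq_true.1 good_ok e he
  simp only [Bool.and_eq_true, Nat.blt_eq] at h
  refine ⟨⟨_, h.1⟩, span_le (In.prog h.2 fun c hc => ?_)⟩
  rcases List.mem_append.1 (show c ∈ [Cd, Cc1, Cc2, Ce5] ++ [qpair e.1 e.2.1] from hc) with hc | hc
  · exact hb c hc
  · rw [List.mem_singleton] at hc; exact hc ▸ hq

theorem good_all : ((List.range 3).all fun i => goodCase.any fun e => Nat.beq e.2.2.1 i) = true := by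
  decide +kernel

theorem gens_in_top (i : Fin 3) : ∀ c ∈ gens i, In ⊤ c := by
  have h := List.all_eq_true.1 good_all i (List.mem_range.2 i.2)
  rw [List.any_eq_true] at h
  obtain ⟨e, he, hi⟩ := h
  rw [Nat.beq_eq] at hi
  have h' := List.all_eq_true.1 good_ok e he
  simp only [Bool.and_eq_true] at h'
  have := In.prog (H := ⊤) h'.2 fun c hc => by
    rcases List.mem_append.1 (show c ∈ [Cd, Cc1, Cc2, Ce5] ++ [qpair e.1 e.2.1] from hc) with hc | hc
    · simp only [List.mem_cons, List.not_mem_nil, or_false] at hc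
      rcases hc with rfl | rfl | rfl | rfl
      exacts [Cd_in, Cc1_in, Cc2_in, Ce5_in]
    · rw [List.mem_singleton] at hc; exact hc ▸ qpair_in_top _ _
  rwa [hi] at this

theorem gens_mem (i : Fin 3) : ∀ c ∈ gens i, In (KS i) c :=
  fun c hc => In.span (gens_in_top i c hc) hc

/-- the target programs for the monomial generators -/
def toProg : Fin 3 → List (ℕ × ℕ × ℕ) := ![toProg0, toProg1, toProg2]

theorem toProg_ok : ∀ i : Fin 3, progB (toProg i) (gens i) [Cd, Cc1, Cc2, Ce5] = true := by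
  decide +kernel

theorem M0_le (i : Fin 3) : M0 ≤ KS i := span_le (In.prog (toProg_ok i) (gens_mem i))

theorem C_le_M0 : C ≤ M0 :=
  span_le fun c hc => M0_gens c (by
    rcases List.mem_cons.1 hc with h | h
    · simp [h]
    · rw [List.mem_singleton] at h; simp [h])

theorem P0_le (i : Fin 3) : P0 ≤ KS i := (sup_le A_le_M0 C_le_M0).trans (M0_le i)

/-- powers of a code -/
def powC (c : ℕ) : ℕ → ℕ
  | 0 => oneC
  | n + 1 => mulC (powC c n) c

theorem cd_pow (g : U6) : ∀ n, cd (g ^ n) = powC (cd g) n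
  | 0 => by rw [pow_zero, cd_one]; rfl
  | n + 1 => by rw [pow_succ, cd_mul, cd_pow g n]; rfl

/-- an element of order eleven -/
def ord11 (c : ℕ) : Bool := !Nat.beq c oneC && Nat.beq (powC c 11) oneC

theorem not_le_of_ord11 {H : Subgroup U6} {c : ℕ} (h : ord11 c = true) (hc : In H c)
    (hH : ¬ 11 ∣ Nat.card H) : False := by
  simp only [ord11, Bool.and_eq_true, Bool.not_eq_true', Nat.beq_eq] at h
  obtain ⟨g, hg, rfl⟩ := hc
  have h1 : g ≠ 1 := fun e => by
    have := h.1; rw [e, cd_one, ← Bool.not_eq_true, Nat.beq_eq] at this; exact this rfl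
  have h2 : g ^ 11 = 1 := cd_injective (by rw [cd_pow, h.2, cd_one])
  haveI : Fact (Nat.Prime 11) := ⟨by norm_num⟩
  apply hH
  have : orderOf (⟨g, hg⟩ : H) = 11 := orderOf_eq_prime (Subtype.ext h2) fun e => h1 (congrArg Subtype.val e)
  exact this ▸ orderOf_dvd_natCard _

theorem bad_ok : (badCase.all fun e => ord11 e.2.2.1 &&
    progB e.2.2.2 [Cd, Cc1, Cc2, Ce5, qpair e.1 e.2.1] [e.2.2.1]) = true := by decide +kernel

theorem bad_spec {e : ℕ × ℕ × ℕ × List (ℕ × ℕ × ℕ)} (he : e ∈ badCase) {H : Subgroup U6}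
    (hb : ∀ c ∈ [Cd, Cc1, Cc2, Ce5], In H c) (hq : In H (qpair e.1 e.2.1))
    (hH : ¬ 11 ∣ Nat.card H) : False := by
  have h := List.all_eq_true.1 bad_ok e he
  simp only [Bool.and_eq_true] at h
  refine not_le_of_ord11 h.1 (In.prog h.2 (fun c hc => ?_) _ (List.mem_singleton_self _)) hH
  rcases List.mem_append.1 (show c ∈ [Cd, Cc1, Cc2, Ce5] ++ [qpair e.1 e.2.1] from hc) with hc | hc
  · exact hb c hc
  · rw [List.mem_singleton] at hc; exact hc ▸ hq

theorem distinct_ok : (distinctCase.all fun e => ord11 e.2.2.1 &&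
    progB e.2.2.2 (gens e.1 ++ gens e.2.1) [e.2.2.1]) = true := by decide +kernel

theorem distinct_all : ∀ i j : Fin 3, i < j →
    (distinctCase.any fun e => Nat.beq e.1 i && Nat.beq e.2.1 j) = true := by decide +kernel

theorem KS_ne {i j : Fin 3} (hij : i ≠ j) (hH : ¬ 11 ∣ Nat.card (KS i)) : KS i ≠ KS j := by
  intro heq
  obtain ⟨a, b, hab, ha, hb⟩ : ∃ a b : Fin 3, a < b ∧ KS a = KS i ∧ KS b = KS i := by
    rcases lt_or_gt_of_ne hij with h | h
    · exact ⟨i, j, h, rfl, heq.symm⟩
    · exact ⟨j, i, h, heq.symm, rfl⟩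
  have h := distinct_all a b hab
  rw [List.any_eq_true] at h
  obtain ⟨e, he, hh⟩ := h
  simp only [Bool.and_eq_true, Nat.beq_eq] at hh
  have h' := List.all_eq_true.1 distinct_ok e he
  simp only [Bool.and_eq_true] at h'
  refine not_le_of_ord11 (H := KS i) h'.1 (In.prog h'.2 (fun c hc => ?_) _ (List.mem_singleton_self _)) hH
  rw [hh.1, hh.2] at hc
  rcases List.mem_append.1 hc with hc | hc
  · exact ha ▸ gens_mem a c hc
  · exact hb ▸ gens_mem b c hc

/-- the programs for conjugates of generators -/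
def nrmProg : Fin 3 → List (ℕ × ℕ × ℕ) := ![nrmProg0, nrmProg1, nrmProg2]

/-- the conjugates of generators -/
def nrmT : Fin 3 → List ℕ := ![nrmT0, nrmT1, nrmT2]

theorem nrm_ok : ∀ i : Fin 3, (progB (nrmProg i) (gens i) (nrmT i) &&
    (List.range 2).all fun k => (List.range 2).all fun m =>
      Nat.beq (mulC ([Ct, Cs6].getD k oneC) ((gens i).getD m oneC))
        (mulC ((nrmT i).getD (2 * k + m) oneC) ([Ct, Cs6].getD k oneC))) = true := by decide +kernel

theorem conj_gens {l : List ℕ} {a b T : ℕ} {t : ℕ → ℕ} (htop : ∀ c ∈ l, In ⊤ c) (hl : l = [a, b])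
    (ht : ∀ m < 2, In (span l) (t m)) (he : ∀ m < 2, mulC T (l.getD m oneC) = mulC (t m) T)
    {p : U6} (hp : cd p = T) : ∀ x ∈ span l, p * x * p⁻¹ ∈ span l := by
  have : span l ≤ (span l).comap (MulAut.conj p).toMonoidHom := by
    refine span_le fun c hc => ?_
    obtain ⟨g, -, rfl⟩ := htop c hc
    refine ⟨g, ?_, rfl⟩
    obtain ⟨m, hm, hm'⟩ : ∃ m < 2, l.getD m oneC = cd g := by
      subst hl
      rcases List.mem_cons.1 hc with e | e
      · exact ⟨0, by norm_num, e.symm⟩
      · exact ⟨1, by norm_num, (List.mem_singleton.1 e).symm⟩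
    have e := he m hm
    rw [← hp, hm'] at e
    obtain ⟨z, hz, ez⟩ := ht m hm
    rw [← ez, ← cd_mul, ← cd_mul] at e
    show p * g * p⁻¹ ∈ span l
    rwa [cd_injective e, mul_inv_cancel_right]
  intro x hx
  have hmem := Subgroup.mem_comap.1 (this hx)
  exact hmem

theorem nrmT_length : ∀ i : Fin 3, (nrmT i).length = 4 := by decide +kernel

theorem nrmT_in {i : Fin 3} {H : Subgroup U6} (h : ∀ c ∈ nrmT i, In H c) (k : ℕ) (hk : k < 2) :
    ∀ m < 2, In H ((nrmT i).getD (2 * k + m) oneC) := by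
  intro m hm
  have := nrmT_length i
  rw [List.getD_eq_getElem _ _ (by omega)]
  exact h _ (List.getElem_mem _)

theorem perm_normalizes (i : Fin 3) (π : Equiv.Perm (Fin 6)) :
    (KS i).map (MulAut.conj (pel π)).toMonoidHom = KS i := by
  let S : Subgroup (Equiv.Perm (Fin 6)) :=
    { carrier := {π | ∀ x ∈ KS i, pel π * x * (pel π)⁻¹ ∈ KS i}
      one_mem' := fun x hx => by simpa [pel_one] using hx
      mul_mem' := fun {a b} ha hb x hx => by
        have := ha _ (hb x hx)
        rw [pel_mul, mul_inv_rev]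
        simpa only [mul_assoc] using this
      inv_mem' := fun {a} ha x hx => by
        have hmap : (KS i).map (MulAut.conj (pel a)).toMonoidHom = KS i := by
          refine Subgroup.eq_of_le_of_card_ge ?_ ?_
          · rintro y ⟨z, hz, rfl⟩; exact ha z hz
          · exact (Nat.card_congr (Subgroup.equivMapOfInjective _ _ (MulEquiv.injective _)).toEquiv).le
        rw [← hmap] at hx
        obtain ⟨z, hz, rfl⟩ := hx
        have e : pel a⁻¹ = (pel a)⁻¹ := eq_inv_of_mul_eq_one_left (by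
          rw [← pel_mul, inv_mul_cancel, pel_one])
        rw [e]
        simpa [mul_assoc] using hz }
  have hS : S = ⊤ := by
    rw [eq_top_iff, ← Equiv.Perm.closure_cycle_adjacent_swap (σ := finRotate 6)
      (isCycle_finRotate_of_le (by norm_num)) (support_finRotate_of_le (by norm_num)) 0,
      Subgroup.closure_le]
    have h := nrm_ok i
    simp only [Bool.and_eq_true, List.all_eq_true, List.mem_range, Nat.beq_eq] at h
    have hin := In.prog h.1 (gens_mem i)
    have key : ∀ (k : ℕ) (T : ℕ), k < 2 → [Ct, Cs6].getD k oneC = T → ∀ p : U6, cd p = T →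
        ∀ x ∈ KS i, p * x * p⁻¹ ∈ KS i := fun k T hk hT p hp x hx =>
      conj_gens (gens_in_top i) (t := fun m => (nrmT i).getD (2 * k + m) oneC) rfl (nrmT_in hin k hk)
        (fun m hm => hT ▸ h.2 k hk m hm) hp x hx
    rintro x (rfl | rfl)
    · exact key 1 Cs6 (by norm_num) rfl _ ((cd_pel _).trans pcode_gens.1)
    · rw [show finRotate 6 (0 : Fin 6) = 1 by decide]
      exact key 0 Ct (by norm_num) rfl _ ((cd_pel _).trans pcode_gens.2)
  have hπ : π ∈ S := hS ▸ Subgroup.mem_top π
  refine Subgroup.eq_of_le_of_card_ge ?_ ?_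
  · rintro y ⟨z, hz, rfl⟩; exact hπ z hz
  · exact (Nat.card_congr (Subgroup.equivMapOfInjective _ _ (MulEquiv.injective _)).toEquiv).le

end CfsgLib.Spor.U62
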