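import Cfsg.Agent.Lib.Spor.U62.BlockMat
import Cfsg.Agent.Lib.Spor.U62.BlockTab
import Cfsg.Agent.Lib.Spor.U62.Inst

/-!
An element of order four centralising `r` determines the subgroup.
-/

set_option autoImplicit false
set_option maxRecDepth 100000

namespace CfsgLib.Spor.U62

open Matrix

/-- the block number as a first index -/
def off : Bool → ℕ
  | true => 0
  | false => 3

/-- the indices of a block -/
def idx : Bool → Fin 3 → Fin 6
  | true => ![0, 1, 2]
  | false => ![3, 4, 5]

/-- the code of a column part -/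
def colC (M : Matrix (Fin 6) (Fin 6) K4) (o : Bool) (p : Fin 3) : ℕ :=
  kCode (M (idx o 0) (idx o p)) + 4 * kCode (M (idx o 1) (idx o p)) + 16 * kCode (M (idx o 2) (idx o p))

theorem ent3_three : ∀ x < 4, ∀ y < 4, ∀ z < 4, ent3 (x + 4 * y + 16 * z) 0 = x ∧
    ent3 (x + 4 * y + 16 * z) 1 = y ∧ ent3 (x + 4 * y + 16 * z) 2 = z ∧ x + 4 * y + 16 * z < 64 := by
  decide +kernel

theorem ent3_colC (M : Matrix (Fin 6) (Fin 6) K4) (o : Bool) (p : Fin 3) :
    (∀ k : Fin 3, ent3 (colC M o p) (k : ℕ) = kCode (M (idx o k) (idx o p))) ∧ colC M o p < 64 := by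
  obtain ⟨h0, h1, h2, h3⟩ := ent3_three _ (kCode_lt (M (idx o 0) (idx o p))) _
    (kCode_lt (M (idx o 1) (idx o p))) _ (kCode_lt (M (idx o 2) (idx o p)))
  refine ⟨fun k => ?_, h3⟩
  fin_cases k
  exacts [h0, h1, h2]

theorem kOf_sqN : ∀ x < 4, kOf (sqN x) = kOf x * kOf x := by decide +kernel

theorem kOf_herm3 (a b : ℕ) : kOf (herm3 a b) =
    kOf (ent3 a 0) * (kOf (ent3 b 0) * kOf (ent3 b 0)) + kOf (ent3 a 1) * (kOf (ent3 b 1) * kOf (ent3 b 1)) +
      kOf (ent3 a 2) * (kOf (ent3 b 2) * kOf (ent3 b 2)) := by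
  have h : ∀ a k, ent3 a k < 4 := fun a k => land_three_lt _
  rw [herm3, kOf_add _ (xor_lt (mulN_lt _ _) (mulN_lt _ _)) _ (mulN_lt _ _),
    kOf_add _ (mulN_lt _ _) _ (mulN_lt _ _)]
  rw [kOf_mul _ (h a 0) (sqN (ent3 b 0)) (mulN_lt _ _), kOf_mul _ (h a 1) (sqN (ent3 b 1)) (mulN_lt _ _),
    kOf_mul _ (h a 2) (sqN (ent3 b 2)) (mulN_lt _ _), kOf_sqN _ (h b 0), kOf_sqN _ (h b 1), kOf_sqN _ (h b 2)]

theorem herm3_lt (a b : ℕ) : herm3 a b < 4 :=
  xor_lt (xor_lt (mulN_lt _ _) (mulN_lt _ _)) (mulN_lt _ _)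

theorem columns_orth (y : U6) (a b : Fin 6) :
    ∑ k, mat y k a * (mat y k b * mat y k b) = if a = b then 1 else 0 := by
  have h := y.2 (Pi.single a 1) (Pi.single b 1)
  change Cfsg.hermForm 6 K4 2 (mat y *ᵥ Pi.single a 1) (mat y *ᵥ Pi.single b 1) = _ at h
  simp only [Cfsg.hermForm, Matrix.mulVec_single_one, pow_two, Matrix.col_apply] at h
  rw [h]
  by_cases hab : a = b
  · subst hab; simp [Pi.single_apply]
  · rw [if_neg hab]
    refine Finset.sum_eq_zero fun k _ => ?_
    rcases eq_or_ne k a with rfl | hk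
    · rw [Pi.single_eq_of_ne hab]; simp
    · rw [Pi.single_eq_of_ne hk]; simp

theorem offdiag_Cr : ∀ a b : Fin 6, a ≠ b → ofCode Cr a b = 0 := by
  intro a b
  show a ≠ b → kOf (ent Cr a b) = 0
  have h : allB (fun i j => Nat.beq i j || Nat.beq (ent Cr i j) 0) = true := by decide +kernel
  intro hab
  have := allB_spec h a b
  simp only [Bool.or_eq_true, Nat.beq_eq] at this
  rw [this.resolve_left (Fin.val_injective.ne hab)]
  decide +kernel

theorem blockDiag_of_commute {y : U6} {r : U6} (hr : cd r = Cr) (h : r * y = y * r) :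
    BlockDiag (mat y) := by
  intro i j hij
  have e := congrFun (congrFun (congrArg mat h) i) j
  rw [map_mul, map_mul, mat_eq r, hr, Matrix.mul_apply, Matrix.mul_apply,
    Finset.sum_eq_single i ?_ (fun hh => absurd (Finset.mem_univ _) hh),
    Finset.sum_eq_single j ?_ (fun hh => absurd (Finset.mem_univ _) hh)] at e
  · rw [mul_comm (mat y i j)] at e
    by_contra hne
    have := mul_right_cancel₀ hne e
    have key : ∀ a b : Fin 6, ent Cr a a = ent Cr b b →
        decide ((a : ℕ) < 3) = decide ((b : ℕ) < 3) := by decide +kernel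
    exact hij (key i j (kOf_inj _ (ent_lt _ _ _) _ (ent_lt _ _ _) this))
  · intro k _ hk
    rw [show ofCode Cr k j = 0 from (show ∀ a b : Fin 6, a ≠ b → ofCode Cr a b = 0 from fun a b => offdiag_Cr a b) k j hk,
      mul_zero]
  · intro k _ hk
    rw [show ofCode Cr i k = 0 from
      (show ∀ a b : Fin 6, a ≠ b → ofCode Cr a b = 0 from fun a b => offdiag_Cr a b) i k (Ne.symm hk), zero_mul]

theorem block_entry (o : Bool) {y : U6} (hy : y ^ 4 = 1) (hb : BlockDiag (mat y)) :
    let a := colC (mat y) o 0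
    let b := colC (mat y) o 1
    let c := colC (mat y) o 2
    ofCode (mkB (off o) a b c) = part o (mat y) ∧ onB a b c = true ∧
      four1 (mkB (off o) a b c) = true := by
  intro a b c
  have hlt : ∀ i j, (if Nat.ble (off o) i && Nat.blt i (off o + 3) &&
      (Nat.ble (off o) j && Nat.blt j (off o + 3))
      then ent3 ([a, b, c].getD (j - off o) 0) (i - off o) else if Nat.beq i j then 1 else 0) < 4 := by
    intro i j
    split
    · exact land_three_lt _
    · split <;> norm_num
  have hmat : ofCode (mkB (off o) a b c) = part o (mat y) := by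
    refine Matrix.ext fun i j => ?_
    show kOf (ent (mkB (off o) a b c) i j) = _
    rw [mkB, ent_build hlt i.2 j.2]
    simp only [part]
    have h0 : kOf 0 = 0 := by decide +kernel
    have h1 : kOf 1 = 1 := by decide +kernel
    have e : ∀ k p : Fin 3, kOf (ent3 (colC (mat y) o p) (k : ℕ)) = mat y (idx o k) (idx o p) :=
      fun k p => by rw [(ent3_colC _ _ _).1 k, kOf_code]
    have e00 := e 0 0
    have e01 := e 0 1
    have e02 := e 0 2
    have e10 := e 1 0
    have e11 := e 1 1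
    have e12 := e 1 2
    have e20 := e 2 0
    have e21 := e 2 1
    have e22 := e 2 2
    cases o <;> simp [idx] at e00 e01 e02 e10 e11 e12 e20 e21 e22 <;> fin_cases i <;> fin_cases j <;>
      simp [off, a, b, c, h0, h1, e00, e01, e02, e10, e11, e12, e20, e21, e22, Nat.ble, Nat.blt]
  refine ⟨hmat, ?_, ?_⟩
  · have key : ∀ p q : Fin 3, herm3 (colC (mat y) o p)
        (colC (mat y) o q) = if p = q then 1 else 0 := by
      intro p q
      refine kOf_inj _ (herm3_lt _ _) _ (by split <;> norm_num) ?_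
      have g := fun p => (ent3_colC (mat y) o p).1
      rw [kOf_herm3]
      rw [show ent3 (colC (mat y) o p) 0 = _ from g p 0, show ent3 (colC (mat y) o p) 1 = _ from g p 1,
        show ent3 (colC (mat y) o p) 2 = _ from g p 2, show ent3 (colC (mat y) o q) 0 = _ from g q 0,
        show ent3 (colC (mat y) o q) 1 = _ from g q 1, show ent3 (colC (mat y) o q) 2 = _ from g q 2]
      simp only [kOf_code]
      have h := columns_orth y (idx o p) (idx o q)
      rw [Fin.sum_univ_six] at h
      have h0 : kOf 0 = 0 := by decide +kernel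
      have h1 : kOf 1 = 1 := by decide +kernel
      cases o <;> fin_cases p <;> fin_cases q <;>
        simp [idx, h0, h1, hb 0 3, hb 0 4, hb 0 5, hb 1 3, hb 1 4, hb 1 5, hb 2 3, hb 2 4, hb 2 5,
          hb 3 0, hb 3 1, hb 3 2, hb 4 0, hb 4 1, hb 4 2, hb 5 0, hb 5 1, hb 5 2] at h ⊢ <;>
        exact h
    have k00 := key 0 0
    have k11 := key 1 1
    have k22 := key 2 2
    have k01 := key 0 1
    have k02 := key 0 2
    have k12 := key 1 2
    simp at k00 k11 k22 k01 k02 k12
    simp [onB, a, b, c, Nat.beq_eq, k00, k11, k22, k01, k02, k12]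
  · rw [four1, Nat.beq_eq, ← codeM_ofCode_mulC, ofCode_mulC, ofCode_mulC, hmat]
    have : part o (mat y) * part o (mat y) * (part o (mat y) * part o (mat y)) = 1 := by
      rw [← pow_two, ← pow_two, ← pow_mul, ← part_pow o hb, ← map_pow, hy, map_one, part_one]
    rw [this]
    decide +kernel

theorem n_prog_ok : slpB o3Prog [Cd, Cc1, Cc2, Ce5] = true := by decide +kernel

theorem n_in_prog : ((n1L ++ n2L).all fun c =>
    memB (oneC :: (o3Prog.map Prod.fst ++ [Cd, Cc1, Cc2, Ce5])) c) = true := by decide +kernel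

theorem q1_n2_commute : ((oneC :: q1L).all fun q => (oneC :: n2L).all fun n =>
    Nat.beq (mulC q n) (mulC n q)) = true := by decide +kernel

theorem qpair_cover : ((List.range 8).all fun a => (List.range 8).all fun b =>
    (Nat.blt a 2 && Nat.blt b 2) || (goodCase.any fun e => Nat.beq e.1 a && Nat.beq e.2.1 b) ||
      (badCase.any fun e => Nat.beq e.1 a && Nat.beq e.2.1 b)) = true := by decide +kernel

theorem exists_KS_le {H : Subgroup U6} (hb : ∀ c ∈ [Cd, Cc1, Cc2, Ce5], In H c)
    (h11 : ¬ 11 ∣ Nat.card H) {r y : U6} (hr : cd r = Cr) (hy : y ∈ H) (hc : r * y = y * r)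
    (h4 : y ^ 4 = 1) (h2 : y ^ 2 ≠ 1) : ∃ i : Fin 3, KS i ≤ H := by
  have hbd := blockDiag_of_commute hr hc
  obtain ⟨hm1, hon1, h41⟩ := block_entry true h4 hbd
  obtain ⟨hm2, hon2, h42⟩ := block_entry false h4 hbd
  obtain ⟨e, he, ee⟩ := enumB_spec enum_one (ent3_colC _ _ _).2 (ent3_colC _ _ _).2 (ent3_colC _ _ _).2 hon1 h41
  obtain ⟨f, hf, ff⟩ := enumB_spec enum_two (ent3_colC _ _ _).2 (ent3_colC _ _ _).2 (ent3_colC _ _ _).2 hon2 h42
  have te := List.all_eq_true.1 tab_one e he
  have tf := List.all_eq_true.1 tab_two f hf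
  simp only [Bool.and_eq_true, Bool.or_eq_true, Bool.not_eq_true', Nat.beq_eq, Nat.blt_eq] at te tf
  rw [show off true = 0 from rfl, ← ee] at hm1
  rw [show off false = 3 from rfl, ← ff] at hm2
  have hn : ∀ c ∈ n1L ++ n2L, In H c := fun c hc =>
    progBase n_prog_ok hb c (List.all_eq_true.1 n_in_prog c hc)
  have get : ∀ (l : List ℕ), (∀ c ∈ l, In H c) → ∀ k, In H (l.getD k oneC) := by
    intro l hl k
    by_cases hk : k < l.length
    · rw [List.getD_eq_getElem _ _ hk]; exact hl _ (List.getElem_mem hk)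
    · rw [List.getD_eq_default _ _ (not_lt.1 hk)]; exact ⟨1, H.one_mem, cd_one⟩
  have getm : ∀ (l : List ℕ) (k : ℕ), l.getD k oneC ∈ oneC :: l := by
    intro l k
    by_cases hk : k < l.length
    · rw [List.getD_eq_getElem _ _ hk]; exact List.mem_cons_of_mem _ (List.getElem_mem hk)
    · rw [List.getD_eq_default _ _ (not_lt.1 hk)]; exact List.mem_cons_self
  have hq : In H (qpair e.2.2 f.2.2) := by
    obtain ⟨n1, hn1, en1⟩ := get _ (fun c hc => hn c (List.mem_append_left _ hc)) e.2.1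
    obtain ⟨n2, hn2, en2⟩ := get _ (fun c hc => hn c (List.mem_append_right _ hc)) f.2.1
    obtain ⟨w, -, ew⟩ := qpair_in_top e.2.2 f.2.2
    have hyw : y = n1 * n2 * w := by
      refine mat_injective ?_
      rw [← (part_decomp hbd).1, ← hm1, ← hm2, te.1.1, tf.1.1, map_mul, map_mul, mat_eq n1, mat_eq n2,
        mat_eq w, en1, en2, ew, qpair]
      simp only [ofCode_mulC]
      have hc := List.all_eq_true.1 (List.all_eq_true.1 q1_n2_commute _ (getm q1L e.2.2)) _ (getm n2L f.2.1)
      rw [Nat.beq_eq] at hc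
      have hc' := congrArg ofCode hc
      rw [ofCode_mulC, ofCode_mulC] at hc'
      simp only [mul_assoc]
      rw [← mul_assoc (ofCode (q1L.getD _ _)), hc', mul_assoc]
    refine ⟨w, ?_, ew⟩
    rw [show w = (n1 * n2)⁻¹ * y by rw [hyw, inv_mul_cancel_left]]
    exact H.mul_mem (H.inv_mem (H.mul_mem hn1 hn2)) hy
  have h := List.all_eq_true.1 (List.all_eq_true.1 qpair_cover _ (List.mem_range.2 te.1.2)) _
    (List.mem_range.2 tf.1.2)
  simp only [Bool.or_eq_true, Bool.and_eq_true, Nat.blt_eq, List.any_eq_true, Nat.beq_eq] at h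
  rcases h with (⟨ha, hb'⟩ | ⟨c, hc, hca, hcb⟩) | ⟨c, hc, hca, hcb⟩
  · exfalso
    apply h2
    have s1 := te.2.resolve_left (by simp [Nat.blt_eq, ha])
    have s2 := tf.2.resolve_left (by simp [Nat.blt_eq, hb'])
    refine mat_injective ?_
    rw [map_pow, map_one, pow_two]
    obtain ⟨d1, d2⟩ := part_decomp hbd
    rw [← hm1, ← hm2] at d1 d2
    calc mat y * mat y = (ofCode e.1 * ofCode f.1) * (ofCode f.1 * ofCode e.1) := by rw [d1, d2]
      _ = ofCode e.1 * (ofCode f.1 * ofCode f.1) * ofCode e.1 := by simp only [mul_assoc]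
      _ = 1 := by
        rw [← ofCode_mulC f.1, s2, ← cd_one, ← mat_eq, map_one, mul_one, ← ofCode_mulC, s1, ← cd_one,
          ← mat_eq, map_one]
  · exact good_spec hc hb (by rw [hca, hcb]; exact hq)
  · exact (bad_spec hc hb (by rw [hca, hcb]; exact hq) h11).elim

end CfsgLib.Spor.U62
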