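import Cfsg.Agent.Lib.Spor.U62.Sylow

/-!
Block diagonal elements.
-/

set_option autoImplicit false
set_option maxRecDepth 100000

namespace CfsgLib.Spor.U62

open Matrix

/-- the vanishing of the entries off the two blocks -/
def BlockDiag (M : Matrix (Fin 6) (Fin 6) K4) : Prop :=
  ∀ i j : Fin 6, decide ((i : ℕ) < 3) ≠ decide ((j : ℕ) < 3) → M i j = 0

/-- restriction to a block, completed by the identity -/
def part (o : Bool) (M : Matrix (Fin 6) (Fin 6) K4) : Matrix (Fin 6) (Fin 6) K4 := fun i j =>
  if decide ((i : ℕ) < 3) = o ∧ decide ((j : ℕ) < 3) = o then M i j else if i = j then 1 else 0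

theorem part_mul (o : Bool) {M N : Matrix (Fin 6) (Fin 6) K4} (hM : BlockDiag M) :
    part o (M * N) = part o M * part o N := by
  refine Matrix.ext fun i j => ?_
  rw [Matrix.mul_apply]
  simp only [part]
  by_cases hi : decide ((i : ℕ) < 3) = o
  · by_cases hj : decide ((j : ℕ) < 3) = o
    · rw [if_pos ⟨hi, hj⟩, Matrix.mul_apply]
      refine Finset.sum_congr rfl fun k _ => ?_
      by_cases hk : decide ((k : ℕ) < 3) = o
      · rw [if_pos ⟨hi, hk⟩, if_pos ⟨hk, hj⟩]
      · have hne : i ≠ k := fun e => hk (e ▸ hi)
        rw [hM i k (by rw [hi]; exact Ne.symm hk), zero_mul,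
          if_neg (fun h : _ ∧ decide ((k : ℕ) < 3) = o => hk h.2), if_neg hne, zero_mul]
    · rw [Finset.sum_eq_single j ?_ (fun h => absurd (Finset.mem_univ _) h)]
      · simp [hj]
      · intro k _ hk
        simp [hj, hk]
  · rw [Finset.sum_eq_single i ?_ (fun h => absurd (Finset.mem_univ _) h)]
    · simp [hi]
    · intro k _ hk
      simp [hi, Ne.symm hk]

theorem part_one (o : Bool) : part o (1 : Matrix (Fin 6) (Fin 6) K4) = 1 := by
  refine Matrix.ext fun i j => ?_
  simp only [part, Matrix.one_apply]
  split <;> rfl

theorem part_decomp {M : Matrix (Fin 6) (Fin 6) K4} (hM : BlockDiag M) :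
    part true M * part false M = M ∧ part false M * part true M = M := by
  have hfix : ∀ o, part o (part o M) = part o M ∧ part (!o) (part o M) = 1 := by
    intro o
    constructor <;> refine Matrix.ext fun i j => ?_
    · simp only [part]; split <;> rfl
    · simp only [part, Matrix.one_apply]
      cases o <;> by_cases hi : (i : ℕ) < 3 <;> by_cases hj : (j : ℕ) < 3 <;> simp [hi, hj]
  have hb : ∀ o, BlockDiag (part o M) := by
    intro o i j h
    simp only [part]
    have hne : i ≠ j := fun e => h (by rw [e])
    rw [if_neg (fun hh => h (hh.1.trans hh.2.symm)), if_neg hne]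
  have heq : ∀ {X Y : Matrix (Fin 6) (Fin 6) K4}, BlockDiag X → BlockDiag Y →
      part true X = part true Y → part false X = part false Y → X = Y := by
    intro X Y hX hY h1 h2
    refine Matrix.ext fun i j => ?_
    by_cases hij : decide ((i : ℕ) < 3) = decide ((j : ℕ) < 3)
    · cases hi : decide ((i : ℕ) < 3)
      · have := congrFun (congrFun h2 i) j
        simpa only [part, if_pos (And.intro hi (hij ▸ hi))] using this
      · have := congrFun (congrFun h1 i) j
        simpa only [part, if_pos (And.intro hi (hij ▸ hi))] using this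
    · rw [hX i j hij, hY i j hij]
  have hprod : ∀ o o', BlockDiag (part o M * part o' M) := by
    intro o o' i j h
    rw [Matrix.mul_apply]
    refine Finset.sum_eq_zero fun k _ => ?_
    by_cases hk : decide ((i : ℕ) < 3) = decide ((k : ℕ) < 3)
    · rw [hb o' k j (by rw [← hk]; exact h), mul_zero]
    · rw [hb o i k hk, zero_mul]
  constructor
  · refine heq (hprod _ _) hM ?_ ?_
    · rw [part_mul _ (hb _), (hfix true).1, show part true (part false M) = 1 from (hfix false).2, mul_one]
    · rw [part_mul _ (hb _), (hfix false).1, show part false (part true M) = 1 from (hfix true).2, one_mul]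
  · refine heq (hprod _ _) hM ?_ ?_
    · rw [part_mul _ (hb _), (hfix true).1, show part true (part false M) = 1 from (hfix false).2, one_mul]
    · rw [part_mul _ (hb _), (hfix false).1, show part false (part true M) = 1 from (hfix true).2, mul_one]

theorem part_pow (o : Bool) {M : Matrix (Fin 6) (Fin 6) K4} (hM : BlockDiag M) :
    ∀ n : ℕ, part o (M ^ n) = part o M ^ n
  | 0 => by rw [pow_zero, pow_zero, part_one]
  | n + 1 => by rw [pow_succ', pow_succ', part_mul o hM, part_pow o hM n]

end CfsgLib.Spor.U62
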