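import Cfsg.Agent.Lib.Spor.U62.DataBase
import Cfsg.Agent.Lib.Spor.U62.Code

/-!
Existence of the base elements.
-/

set_option autoImplicit false
set_option maxRecDepth 100000

namespace CfsgLib.Spor.U62

theorem det_Cd : (ofCode Cd).det = 1 := by decide +kernel
theorem det_Cc1 : (ofCode Cc1).det = 1 := by decide +kernel
theorem det_Cc2 : (ofCode Cc2).det = 1 := by decide +kernel
theorem det_Ce5 : (ofCode Ce5).det = 1 := by decide +kernel
theorem det_Ct : (ofCode Ct).det = 1 := by decide +kernel
theorem det_Cs6 : (ofCode Cs6).det = 1 := by decide +kernel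
theorem det_Cr : (ofCode Cr).det = 1 := by decide +kernel
theorem det_B1a : (ofCode B1a).det = 1 := by decide +kernel
theorem det_B1b : (ofCode B1b).det = 1 := by decide +kernel
theorem det_B2a : (ofCode B2a).det = 1 := by decide +kernel
theorem det_B2b : (ofCode B2b).det = 1 := by decide +kernel

theorem base_ok : (baseAll.all fun c => Nat.beq (build fun i j => ent c i j) c && unitB c) = true := by
  decide +kernel

theorem In.base : ∀ c ∈ baseAll, In ⊤ c := by
  intro c hc
  have hok := List.all_eq_true.1 base_ok c hc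
  obtain ⟨g, hg⟩ := exists_cd hok (by
    simp only [baseAll, List.mem_cons, List.not_mem_nil, or_false] at hc
    rcases hc with h | h | h | h | h | h | h | h | h | h | h <;> rw [h]
    exacts [det_Cd, det_Cc1, det_Cc2, det_Ce5, det_Ct, det_Cs6, det_Cr, det_B1a, det_B1b, det_B2a,
      det_B2b])
  exact ⟨g, Subgroup.mem_top _, hg⟩

/-- an element with a given code, if there is one -/
noncomputable def el (c : ℕ) : U6 := Classical.epsilon fun g => cd g = c

theorem cd_el {H : Subgroup U6} {c : ℕ} (h : In H c) : cd (el c) = c :=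
  Classical.epsilon_spec (p := fun g => cd g = c) ⟨h.choose, h.choose_spec.2⟩

theorem el_cd (g : U6) : el (cd g) = g :=
  cd_injective (Classical.epsilon_spec (p := fun k => cd k = cd g) ⟨g, rfl⟩)

theorem In.el_mem {H : Subgroup U6} {c : ℕ} (h : In H c) : el c ∈ H := h.mem (cd_el h)

/-- closure of the elements with codes in a list -/
def span (l : List ℕ) : Subgroup U6 := Subgroup.closure {g | cd g ∈ l}

theorem In.span {l : List ℕ} {c : ℕ} (hl : In ⊤ c) (hc : c ∈ l) : In (span l) c := by
  obtain ⟨g, -, rfl⟩ := hl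
  exact ⟨g, Subgroup.subset_closure hc, rfl⟩

theorem span_le {l : List ℕ} {H : Subgroup U6} (h : ∀ c ∈ l, In H c) : span l ≤ H := by
  rw [CfsgLib.Spor.U62.span, Subgroup.closure_le]
  exact fun g hg => (h _ hg).mem rfl

end CfsgLib.Spor.U62
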