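import Cfsg.Agent.Lib.Spor.U62.Gens
import Cfsg.Agent.Lib.Spor.U62.Count

/-!
The diagonal group, its normaliser and a Sylow 3-subgroup.
-/

set_option autoImplicit false
set_option maxRecDepth 100000

namespace CfsgLib.Spor.U62

open scoped Pointwise

/-- membership in a list of codes -/
def memB (l : List ℕ) (c : ℕ) : Bool := l.any (Nat.beq c)

theorem memB_iff {l : List ℕ} {c : ℕ} : memB l c = true ↔ c ∈ l := by
  simp [memB, List.any_eq_true, Nat.beq_eq]

theorem inList_of_gens {L S : List ℕ}
    (h : ((memB L oneC) && L.all fun x => S.all fun y => memB L (mulC x y)) = true)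
    {g : U6} (hg : g ∈ span S) : cd g ∈ L := by
  simp only [Bool.and_eq_true, List.all_eq_true, memB_iff] at h
  exact closure_mem_list cd_mul (cd_one ▸ h.1) h.2 (fun _ hk => hk) g hg

theorem card_span {L S : List ℕ}
    (h : ((memB L oneC) && L.all fun x => S.all fun y => memB L (mulC x y)) = true)
    (hnd : L.Pairwise (fun a b => a < b)) (hin : ∀ c ∈ L, In (span S) c) :
    Nat.card (span S) = L.length :=
  card_eq_length cd_injective (hnd.imp fun hh => Nat.ne_of_lt hh)
    (fun _ hg => inList_of_gens h hg) fun x hx => by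
      obtain ⟨g, hg, e⟩ := hin x hx; exact ⟨g, hg, e⟩

theorem progBase {H : Subgroup U6} {r : List (ℕ × ℕ × ℕ)} {base : List ℕ} (h : slpB r base = true)
    (hb : ∀ c ∈ base, In H c) : ∀ c, memB (oneC :: (r.map Prod.fst ++ base)) c = true → In H c := by
  intro c hc
  rcases List.mem_cons.1 (memB_iff.1 hc) with rfl | hc
  · exact ⟨1, H.one_mem, cd_one⟩
  · exact mem_of_slpB r base h hb c (List.mem_append.1 hc)

theorem Cd_in : In ⊤ Cd := In.base _ (by simp [baseAll])
theorem Cc1_in : In ⊤ Cc1 := In.base _ (by simp [baseAll])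
theorem Cc2_in : In ⊤ Cc2 := In.base _ (by simp [baseAll])
theorem Ce5_in : In ⊤ Ce5 := In.base _ (by simp [baseAll])

/-- the monomial subgroup `3⁵:A₆` -/
def M0 : Subgroup U6 := span [Cd, Cc1, Cc2, Ce5]

theorem M0_gens : ∀ c ∈ [Cd, Cc1, Cc2, Ce5], In M0 c := by
  intro c hc
  refine In.span ?_ hc
  simp only [List.mem_cons, List.not_mem_nil, or_false] at hc
  rcases hc with rfl | rfl | rfl | rfl
  exacts [Cd_in, Cc1_in, Cc2_in, Ce5_in]

theorem diagProg_ok : slpB diagProg [Cd, Cc1, Cc2, Ce5] = true := by decide +kernel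

theorem diagL_mem_prog : (diagL.all fun c =>
    memB (oneC :: (diagProg.map Prod.fst ++ [Cd, Cc1, Cc2, Ce5])) c) = true := by decide +kernel

theorem diagGens_sub : (diagGens.all fun c => memB diagL c) = true := by decide +kernel

theorem diagL_in_M0 : ∀ c ∈ diagL, In M0 c := fun c hc =>
  progBase diagProg_ok M0_gens c (List.all_eq_true.1 diagL_mem_prog c hc)

theorem diagL_in_top (c : ℕ) (hc : c ∈ diagL) : In ⊤ c := by
  obtain ⟨g, -, e⟩ := diagL_in_M0 c hc
  exact ⟨g, Subgroup.mem_top _, e⟩

/-- the diagonal group -/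
def A : Subgroup U6 := span diagL

theorem A_closed : ((memB diagL oneC) &&
    diagL.all fun x => diagGens.all fun y => memB diagL (mulC x y)) = true := by decide +kernel

/-- the elements with diagonal matrices -/
def Dia : Subgroup U6 where
  carrier := {g | ∀ i j : Fin 6, i ≠ j → mat g i j = 0}
  one_mem' := fun i j h => by rw [map_one]; exact Matrix.one_apply_ne h
  mul_mem' := fun {x y} hx hy i j h => by
    rw [map_mul, Matrix.mul_apply]
    refine Finset.sum_eq_zero fun k _ => ?_
    rcases eq_or_ne i k with rfl | hik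
    · rw [hy i j h, mul_zero]
    · rw [hx i k hik, zero_mul]
  inv_mem' := fun {x} hx => by
    intro i j h
    have e : mat x * mat x⁻¹ = 1 := by rw [← map_mul, mul_inv_cancel, map_one]
    have e1 := congrFun (congrFun e i) j
    rw [Matrix.mul_apply, Finset.sum_eq_single i (fun k _ hk => by rw [hx i k hk.symm, zero_mul])
      (fun h' => absurd (Finset.mem_univ i) h'), Matrix.one_apply_ne h] at e1
    have e2 := congrFun (congrFun e i) i
    rw [Matrix.mul_apply, Finset.sum_eq_single i (fun k _ hk => by rw [hx i k hk.symm, zero_mul])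
      (fun h' => absurd (Finset.mem_univ i) h'), Matrix.one_apply_eq] at e2
    exact (mul_eq_zero.1 e1).resolve_left fun h0 => by
      rw [h0, zero_mul] at e2; exact zero_ne_one e2

theorem mem_Dia {g : U6} : g ∈ Dia ↔ ∀ i j : Fin 6, i ≠ j → mat g i j = 0 := Iff.rfl


theorem cd_mem_diagL {g : U6} (hgD : g ∈ Dia) : cd g ∈ diagL := by
  rw [mem_Dia] at hgD
  have hdet : (mat g).det = 1 := g.1.2
  have hm : mat g = Matrix.diagonal fun i => mat g i i := by
    refine Matrix.ext fun i j => ?_
    rcases eq_or_ne i j with rfl | h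
    · rw [Matrix.diagonal_apply_eq]
    · rw [Matrix.diagonal_apply_ne _ h, hgD i j h]
  rw [hm, Matrix.det_diagonal, Fin.prod_univ_six] at hdet
  have key : ((List.range 4).all fun a => (List.range 4).all fun b => (List.range 4).all fun c =>
      (List.range 4).all fun d => (List.range 4).all fun e => (List.range 4).all fun f =>
      !Nat.beq (mulN (mulN (mulN (mulN (mulN a b) c) d) e) f) 1 ||
      memB diagL (build fun i j => if Nat.beq i j then [a, b, c, d, e, f].getD i 0 else 0)) = true := by
    decide +kernel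
  simp only [List.all_eq_true, List.mem_range, Bool.or_eq_true, Bool.not_eq_true'] at key
  have hc : ∀ i : Fin 6, kOf (kCode (mat g i i)) = mat g i i := fun i => kOf_code _
  have hprod : Nat.beq (mulN (mulN (mulN (mulN (mulN (kCode (mat g 0 0)) (kCode (mat g 1 1)))
      (kCode (mat g 2 2))) (kCode (mat g 3 3))) (kCode (mat g 4 4))) (kCode (mat g 5 5))) 1 = true := by
    rw [Nat.beq_eq]
    refine kOf_inj _ (mulN_lt _ _) 1 (by norm_num) ?_
    simp only [kOf_mul _ (mulN_lt _ _) _ (kCode_lt _), kOf_mul _ (kCode_lt _) _ (kCode_lt _), kOf_code]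
    rw [hdet]; decide +kernel
  have := memB_iff.1 ((key _ (kCode_lt _) _ (kCode_lt _) _ (kCode_lt _) _ (kCode_lt _) _ (kCode_lt _) _
    (kCode_lt _)).resolve_left (by rw [hprod]; exact Bool.true_eq_false.mp))
  convert this using 1
  rw [cd, codeM, build, build]
  congr 1
  refine List.map_congr_left fun n hn => ?_
  have hn' := List.mem_range.1 hn
  have hi : n / 6 < 6 := by omega
  have hj : n % 6 < 6 := Nat.mod_lt _ (by norm_num)
  rw [hm]
  rcases eq_or_ne (n / 6) (n % 6) with h | h
  · rw [show Fin.ofNat 6 (n % 6) = Fin.ofNat 6 (n / 6) by rw [h], Matrix.diagonal_apply_eq,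
      if_pos (by rw [h]; exact Nat.beq_refl _)]
    interval_cases hv : n / 6 <;> rfl
  · rw [Matrix.diagonal_apply_ne _ (fun e => h (by simpa [Fin.ext_iff, Nat.mod_eq_of_lt hi, Nat.mod_eq_of_lt hj] using e)),
      if_neg (by simpa [Nat.beq_eq] using h)]
    decide +kernel

theorem diag_codes : (diagL.all fun c =>
    allB fun i j => Nat.beq i j || Nat.beq (ent c i j) 0) = true := by decide +kernel

theorem A_eq_Dia : A = Dia := by
  refine le_antisymm (span_le fun c hc => ?_) fun g hg => Subgroup.subset_closure (cd_mem_diagL hg)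
  obtain ⟨k, -, rfl⟩ := diagL_in_top c hc
  refine ⟨k, mem_Dia.2 fun i j h => ?_, rfl⟩
  have hh := allB_spec (List.all_eq_true.1 diag_codes _ hc) i j
  simp only [Bool.or_eq_true, Nat.beq_eq] at hh
  rw [mat_eq]
  show kOf (ent (cd k) i j) = 0
  rw [hh.resolve_left (Fin.val_injective.ne h)]
  decide +kernel

theorem A_mem_iff {g : U6} : g ∈ A ↔ cd g ∈ diagL :=
  ⟨fun hg => cd_mem_diagL (A_eq_Dia ▸ hg), fun hg => Subgroup.subset_closure hg⟩

theorem diagL_sorted : diagL.Pairwise (fun a b => a < b) := by decide +kernel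

theorem card_A : Nat.card A = 243 := by
  rw [card_eq_length cd_injective (diagL_sorted.imp fun hh => Nat.ne_of_lt hh)
    (fun g hg => A_mem_iff.1 hg) fun x hx => by
      obtain ⟨g, -, e⟩ := diagL_in_top x hx
      exact ⟨g, A_mem_iff.2 (e ▸ hx), e⟩]
  decide +kernel

theorem A_le_M0 : A ≤ M0 := span_le diagL_in_M0

theorem A_comm : ∀ x ∈ A, ∀ y ∈ A, x * y = y * x := by
  intro x hx y hy
  rw [A_eq_Dia, mem_Dia] at hx hy
  refine mat_injective (Matrix.ext fun i j => ?_)
  rw [map_mul, map_mul, Matrix.mul_apply, Matrix.mul_apply]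
  refine Finset.sum_congr rfl fun k _ => ?_
  rcases eq_or_ne i k with rfl | h1
  · rcases eq_or_ne i j with rfl | h2
    · exact mul_comm _ _
    · rw [hx i j h2, hy i j h2, mul_zero, mul_zero]
  · rw [hx i k h1, hy i k h1, zero_mul, zero_mul]

end CfsgLib.Spor.U62
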