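import Cfsg.Agent.Lib.Spor.U62.Sylow
import Cfsg.Agent.Lib.Spor.U62.Data

/-!
Permutation matrices and the normaliser of the diagonal group.
-/

set_option autoImplicit false
set_option maxRecDepth 100000

namespace CfsgLib.Spor.U62

/-- the code of a permutation matrix -/
def pcode (π : Equiv.Perm (Fin 6)) : ℕ :=
  build fun i j => if Nat.beq ((π (Fin.ofNat 6 j) : Fin 6) : ℕ) i then 1 else 0

theorem ofCode_pcode (π : Equiv.Perm (Fin 6)) (i j : Fin 6) :
    ofCode (pcode π) i j = if π j = i then 1 else 0 := by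
  show kOf (ent (pcode π) i j) = _
  rw [pcode, ent_build (fun a b => by split <;> norm_num) i.2 j.2, Fin.ofNat_val_eq_self]
  by_cases h : π j = i
  · rw [if_pos (by rw [h]; exact Nat.beq_refl _), if_pos h]; decide +kernel
  · rw [if_neg (by simpa [Nat.beq_eq] using Fin.val_injective.ne h), if_neg h]; decide +kernel

theorem build_ent {f : ℕ → ℕ → ℕ} (hf : ∀ i j, f i j < 4) :
    build (fun i j => ent (build f) i j) = build f := by
  refine congrArg pack (List.map_congr_left fun n hn => ?_)
  have hn' := List.mem_range.1 hn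
  exact ent_build hf (by omega) (Nat.mod_lt _ (by norm_num))

theorem codeM_pcode (π : Equiv.Perm (Fin 6)) : codeM (ofCode (pcode π)) = pcode π :=
  (codeM_ofCode _).trans (build_ent fun i j => by split <;> norm_num)

theorem mulC_pcode (π ρ : Equiv.Perm (Fin 6)) : mulC (pcode π) (pcode ρ) = pcode (π * ρ) := by
  rw [← codeM_ofCode_mulC, ofCode_mulC, ← codeM_pcode (π * ρ)]
  congr 1
  refine Matrix.ext fun i j => ?_
  rw [Matrix.mul_apply, Finset.sum_eq_single (ρ j) (fun k _ hk => by
      rw [ofCode_pcode ρ, if_neg (Ne.symm hk), mul_zero])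
    (fun h => absurd (Finset.mem_univ _) h), ofCode_pcode, ofCode_pcode, ofCode_pcode, if_pos rfl,
    mul_one]
  rfl

theorem pcode_gens : pcode (finRotate 6) = Cs6 ∧ pcode (Equiv.swap 0 1) = Ct := by
  decide +kernel

/-- the permutations whose matrices lie in `H` -/
def permsIn (H : Subgroup U6) : Subgroup (Equiv.Perm (Fin 6)) where
  carrier := {π | In H (pcode π)}
  one_mem' := ⟨1, H.one_mem, cd_one.trans (by decide +kernel)⟩
  mul_mem' := fun {a b} ha hb => by
    show In H (pcode (a * b))
    rw [← mulC_pcode]; exact In.mul ha hb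
  inv_mem' := fun {a} ha => by
    obtain ⟨g, hg, e⟩ := ha
    have : ∀ n : ℕ, In H (pcode (a ^ n)) := fun n => by
      induction n with
      | zero => rw [pow_zero]; exact ⟨1, H.one_mem, cd_one.trans (by decide +kernel)⟩
      | succ m ih => rw [pow_succ, ← mulC_pcode]; exact ih.mul ⟨g, hg, e⟩
    show In H (pcode a⁻¹)
    have hp : a⁻¹ = a ^ (orderOf a - 1) := by
      refine inv_eq_of_mul_eq_one_right ?_
      rw [← pow_succ', Nat.sub_one_add_one (orderOf_pos a).ne', pow_orderOf_eq_one]
    rw [hp]; exact this _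

theorem permsIn_top (π : Equiv.Perm (Fin 6)) : In ⊤ (pcode π) := by
  have h : permsIn ⊤ = ⊤ := by
    rw [eq_top_iff, ← Equiv.Perm.closure_cycle_adjacent_swap (σ := finRotate 6)
      (isCycle_finRotate_of_le (by norm_num)) (support_finRotate_of_le (by norm_num)) 0,
      Subgroup.closure_le]
    rintro x (rfl | rfl)
    · show In ⊤ _; rw [pcode_gens.1]; exact In.base _ (by simp [baseAll])
    · show In ⊤ _
      rw [show finRotate 6 (0 : Fin 6) = 1 by decide, pcode_gens.2]
      exact In.base _ (by simp [baseAll])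
  exact (h ▸ Subgroup.mem_top π : π ∈ permsIn ⊤)

/-- the element of a permutation -/
noncomputable def pel (π : Equiv.Perm (Fin 6)) : U6 := el (pcode π)

theorem cd_pel (π : Equiv.Perm (Fin 6)) : cd (pel π) = pcode π := cd_el (permsIn_top π)

theorem pel_mul (π ρ : Equiv.Perm (Fin 6)) : pel (π * ρ) = pel π * pel ρ :=
  cd_injective (by rw [cd_mul, cd_pel, cd_pel, cd_pel, mulC_pcode])

theorem mat_pel (π : Equiv.Perm (Fin 6)) (i j : Fin 6) :
    mat (pel π) i j = if π j = i then 1 else 0 := by
  rw [mat_eq, cd_pel, ofCode_pcode]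

theorem pel_one : pel 1 = 1 := cd_injective (by rw [cd_pel, cd_one]; decide +kernel)

theorem diag_separates : ((List.range 6).all fun j => (List.range 6).all fun k => Nat.beq j k ||
    diagL.any fun c => !Nat.beq (ent c j j) (ent c k k)) = true := by decide +kernel

theorem monomial_of_normalizes {g : U6} (hg : ∀ x ∈ A, g * x * g⁻¹ ∈ A) :
    ∃ a ∈ A, ∃ π : Equiv.Perm (Fin 6), g = a * pel π := by
  have hrow : ∀ i j k : Fin 6, mat g i j ≠ 0 → mat g i k ≠ 0 → j = k := by
    intro i j k hj hk
    by_contra hne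
    have h := List.all_eq_true.1 (List.all_eq_true.1 diag_separates j (List.mem_range.2 j.2)) k
      (List.mem_range.2 k.2)
    simp only [Bool.or_eq_true, Nat.beq_eq, List.any_eq_true, Bool.not_eq_true'] at h
    obtain ⟨c, hc, hne'⟩ := h.resolve_left (Fin.val_injective.ne hne)
    obtain ⟨x, -, rfl⟩ := diagL_in_top c hc
    have hxA : x ∈ A := A_mem_iff.2 hc
    have hy := hg x hxA
    rw [A_eq_Dia, mem_Dia] at hy hxA
    have key : ∀ l : Fin 6, mat g i l ≠ 0 → mat x l l = mat (g * x * g⁻¹) i i := by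
      intro l hl
      have e : mat (g * x * g⁻¹) * mat g = mat g * mat x := by
        rw [← map_mul, ← map_mul, inv_mul_cancel_right]
      have e' := congrFun (congrFun e i) l
      rw [Matrix.mul_apply, Finset.sum_eq_single i (fun m _ hm => by rw [hy i m hm.symm, zero_mul])
          (fun h => absurd (Finset.mem_univ _) h), Matrix.mul_apply,
        Finset.sum_eq_single l (fun m _ hm => by rw [hxA m l hm, mul_zero])
          (fun h => absurd (Finset.mem_univ _) h), mul_comm (mat g i l)] at e'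
      exact (mul_right_cancel₀ hl e').symm
    have e := (key j hj).trans (key k hk).symm
    rw [mat_eq] at e
    have := kOf_inj _ (ent_lt _ _ _) _ (ent_lt _ _ _) e
    rw [← Bool.not_eq_true, Nat.beq_eq] at hne'
    exact hne' this
  have hdet : (mat g).det = 1 := g.1.2
  have hrow' : ∀ i, ∃ j, mat g i j ≠ 0 := by
    intro i
    by_contra h
    push Not at h
    rw [Matrix.det_eq_zero_of_row_eq_zero i h] at hdet
    exact zero_ne_one hdet
  choose σ hσ using hrow'
  have hσs : Function.Surjective σ := by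
    intro j
    by_contra h
    push Not at h
    rw [Matrix.det_eq_zero_of_column_eq_zero j fun i => by
      by_contra hi; exact h i (hrow i _ _ (hσ i) hi)] at hdet
    exact zero_ne_one hdet
  let e : Equiv.Perm (Fin 6) := Equiv.ofBijective σ ⟨Finite.injective_iff_surjective.2 hσs, hσs⟩
  refine ⟨g * pel e, ?_, e⁻¹, ?_⟩
  · rw [A_eq_Dia, mem_Dia]
    intro i j hij
    rw [map_mul, Matrix.mul_apply]
    refine Finset.sum_eq_zero fun k _ => ?_
    rw [mat_pel]
    by_cases hk : e j = k
    · rw [if_pos hk, mul_one]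
      by_contra h
      exact hij (Finite.injective_iff_surjective.2 hσs ((hrow i _ _ (hσ i) h).trans hk.symm))
    · rw [if_neg hk, mul_zero]
  · rw [mul_assoc, ← pel_mul, mul_inv_cancel, pel_one, mul_one]

theorem perm_five_code : ∀ π : Equiv.Perm (Fin 6), π ^ 5 = 1 → π ≠ 1 →
    (fiveCase.any fun e => Nat.beq e.1 (pcode π)) = true := by decide +kernel

theorem five_progs : (fiveCase.all fun e => progB e.2 [Cc1, Cc2, e.1] [Ce5]) = true := by
  decide +kernel

theorem e5_of_order_five {H : Subgroup U6} (hc1 : In H Cc1) (hc2 : In H Cc2) (hA : A ≤ H)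
    {g : U6} (hg : g ∈ H) (hn : ∀ x ∈ A, g * x * g⁻¹ ∈ A) (h5 : g ^ 5 = 1) (h1 : g ≠ 1) :
    In H Ce5 := by
  obtain ⟨a, ha, π, rfl⟩ := monomial_of_normalizes hn
  have hpow : ∀ n : ℕ, ∃ b ∈ A, (a * pel π) ^ n = b * pel (π ^ n) := by
    intro n
    induction n with
    | zero => exact ⟨1, A.one_mem, by rw [pow_zero, pow_zero, pel_one, one_mul]⟩
    | succ m ih =>
      obtain ⟨b, hb, e⟩ := ih
      refine ⟨(a * pel π) * b * (a * pel π)⁻¹ * a, A.mul_mem (hn b hb) ha, ?_⟩
      · rw [pow_succ', e, pow_succ' π, pel_mul]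
        group
  obtain ⟨b, hb, e⟩ := hpow 5
  rw [h5] at e
  have hdiag : ∀ ρ : Equiv.Perm (Fin 6), pel ρ ∈ A → ρ = 1 := by
    intro ρ h
    rw [A_eq_Dia, mem_Dia] at h
    refine Equiv.ext fun j => ?_
    by_contra hne
    have := h (ρ j) j hne
    rw [mat_pel, if_pos rfl] at this
    exact one_ne_zero this
  have hπ5 : π ^ 5 = 1 := hdiag _ (by
    rw [show pel (π ^ 5) = b⁻¹ by rw [eq_inv_iff_mul_eq_one]; exact
      (mul_eq_one_comm.1 e.symm)]
    exact A.inv_mem hb)
  have hπ1 : π ≠ 1 := by
    rintro rfl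
    rw [pel_one, mul_one] at h5 h1
    have h3 : orderOf (⟨a, ha⟩ : A) ∣ 243 := card_A ▸ orderOf_dvd_natCard _
    have h5' : orderOf (⟨a, ha⟩ : A) ∣ 5 := orderOf_dvd_of_pow_eq_one (Subtype.ext h5)
    have := Nat.dvd_gcd h3 h5'
    norm_num [orderOf_eq_one_iff] at this
    exact h1 this
  have hcode := perm_five_code π hπ5 hπ1
  rw [List.any_eq_true] at hcode
  obtain ⟨c, hc, ec⟩ := hcode
  rw [Nat.beq_eq] at ec
  have hp : In H c.1 := ⟨pel π, by
    have := H.mul_mem (H.inv_mem (hA ha)) hg
    rwa [inv_mul_cancel_left] at this, (cd_pel π).trans ec.symm⟩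
  refine In.prog (List.all_eq_true.1 five_progs c hc) (fun x hx => ?_) _ (List.mem_singleton_self _)
  simp only [List.mem_cons, List.not_mem_nil, or_false] at hx
  rcases hx with rfl | rfl | rfl
  exacts [hc1, hc2, hp]

end CfsgLib.Spor.U62
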